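import Cfsg.Agent.Lib.Fischer.Frame126.Label

/-!
# Adjacency is orthogonality
-/

set_option autoImplicit false
set_option maxRecDepth 10000

namespace Cfsg.Lib.Fischer.Frame126

universe u

theorem dot_same : ∀ i j : Fin 6, i ≠ j → dot (ones i j) (ones i j) ≠ 0 ∧
    ∀ c, c ≠ i → c ≠ j → dot (ones i j) (fv c (ones i j)) ≠ 0 ∧
      ∀ d, d ≠ i → d ≠ j → c ≠ d → dot (ones i j) (fv c (fv d (ones i j))) = 0 := by
  decide +kernel

theorem dot_share : ∀ i j : Fin 6, i ≠ j → ∀ k, k ≠ i → k ≠ j → dot (ones i j) (ones i k) = 0 ∧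
    ∀ c, c ≠ i → c ≠ j → c ≠ k → dot (ones i j) (fv c (ones i k)) ≠ 0 ∧
      ∀ d, d ≠ i → d ≠ j → d ≠ k → c ≠ d → dot (ones i j) (fv c (fv d (ones i k))) ≠ 0 := by
  decide +kernel

theorem dot_disjoint : ∀ i j : Fin 6, i ≠ j → ∀ a, a ≠ i → a ≠ j → ∀ b, b ≠ i → b ≠ j → a ≠ b →
    dot (ones i j) (ones a b) ≠ 0 ∧
    ∀ c, c ≠ i → c ≠ j → c ≠ a → c ≠ b → dot (ones i j) (fv c (ones a b)) = 0 ∧
      ∀ d, d ≠ i → d ≠ j → d ≠ a → d ≠ b → c ≠ d → dot (ones i j) (fv c (fv d (ones a b))) ≠ 0 := by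
  decide +kernel

theorem ones_symm (i j : Fin 6) : ones i j = ones j i := by
  funext t; simp only [ones, or_comm]

theorem fv_ones {i j k : Fin 6} (h : k = i ∨ k = j) : fv k (ones i j) = ones i j := by
  funext t
  simp only [fv, ones]
  split_ifs <;> simp_all

theorem exists_last (i j k l : Fin 6) (h : [i, j, k, l].Nodup) : ∃ m n, Four i j k l m n := by
  revert i j k l
  decide +kernel

theorem exists_last' (i j k c d : Fin 6) (h : [i, j, k, c, d].Nodup) : ∃ e, Four i k j e c d := by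
  revert i j k c d
  decide +kernel

namespace Gauge

variable {Ω : Type u} {S : Space Ω} (Γ : Gauge S)

theorem norm_ones {i j : Fin 6} (h : i ≠ j) : dot (ones i j) (ones i j) = 1 := (ones_facts i j h).1

theorem norm_fv {v : Vec} (h : dot v v = 1) (k : Fin 6) : dot (fv k v) (fv k v) = 1 := by rw [dot_fv, h]

theorem τ_adj (k : Fin 6) {x y : Ω} : S.adj (Γ.τ k x) (Γ.τ k y) ↔ S.adj x y := S.adj_tw_iff _

/-- A sign change at a zero of the first vector changes nothing. -/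
theorem drop_left {i j s : Fin 6} (hij : i ≠ j) (h : s = i ∨ s = j) {w : Vec} (hw : dot w w = 1) :
    (S.adj (Γ.B i j) (Γ.psi (fv s w)) ↔ S.adj (Γ.B i j) (Γ.psi w)) ∧
      dot (ones i j) (fv s w) = dot (ones i j) w := by
  refine ⟨?_, ?_⟩
  · rw [Γ.psi_fv hw]
    exact S.adj_tw_left Γ.frame (Γ.mem i j hij) h
  · conv_rhs => rw [← dot_fv s, fv_ones h]

theorem adj_same {i j : Fin 6} (hij : i ≠ j) (s t : Fin 6) :
    S.adj (Γ.B i j) (Γ.psi (fv s (fv t (ones i j)))) ↔ dot (ones i j) (fv s (fv t (ones i j))) = 0 := by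
  have n0 := norm_ones hij
  have base : S.adj (Γ.B i j) (Γ.psi (ones i j)) ↔ dot (ones i j) (ones i j) = 0 := by
    rw [Γ.psi_ones hij]
    exact iff_of_false (S.adj_irrefl _) (dot_same i j hij).1
  have single : ∀ c, S.adj (Γ.B i j) (Γ.psi (fv c (ones i j))) ↔ dot (ones i j) (fv c (ones i j)) = 0 := by
    intro c
    by_cases hc : c = i ∨ c = j
    · rw [(Γ.drop_left hij hc n0).1, (Γ.drop_left hij hc n0).2]; exact base
    simp only [not_or] at hc
    rw [Γ.psi_fv n0, Γ.psi_ones hij]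
    exact iff_of_false (S.not_adj_tw Γ.frame (Γ.mem i j hij) hc.1 hc.2) ((dot_same i j hij).2 c hc.1 hc.2).1
  rcases eq_or_ne s t with rfl | hst
  · rw [fv_fv]; exact base
  by_cases hs : s = i ∨ s = j
  · rw [fv_comm, fv_ones hs]; exact single t
  by_cases ht : t = i ∨ t = j
  · rw [fv_ones ht]; exact single s
  simp only [not_or] at hs ht
  rw [Γ.psi_fv (norm_fv n0 t), Γ.psi_fv n0, Γ.psi_ones hij]
  exact iff_of_true (S.adj_tw_two Γ.frame (Γ.mem i j hij) hs.1 hs.2 ht.1 ht.2 hst)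
    (((dot_same i j hij).2 s hs.1 hs.2).2 t ht.1 ht.2 hst)

theorem adj_share {i j k : Fin 6} (hij : i ≠ j) (hki : k ≠ i) (hkj : k ≠ j) (s t : Fin 6) :
    S.adj (Γ.B i j) (Γ.psi (fv s (fv t (ones i k)))) ↔ dot (ones i j) (fv s (fv t (ones i k))) = 0 := by
  have hik : i ≠ k := hki.symm
  have n0 := norm_ones hik
  have hxy := Γ.adj i j k hij hik hkj.symm
  have hx := Γ.mem i j hij
  have hy := Γ.mem i k hik
  have base : S.adj (Γ.B i j) (Γ.psi (ones i k)) ↔ dot (ones i j) (ones i k) = 0 := by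
    rw [Γ.psi_ones hik]
    exact iff_of_true hxy (dot_share i j hij k hki hkj).1
  have single : ∀ c, S.adj (Γ.B i j) (Γ.psi (fv c (ones i k))) ↔ dot (ones i j) (fv c (ones i k)) = 0 := by
    intro c
    by_cases hc : c = i ∨ c = j
    · rw [(Γ.drop_left hij hc n0).1, (Γ.drop_left hij hc n0).2]; exact base
    by_cases hc' : c = k
    · rw [fv_ones (Or.inr hc')]; exact base
    simp only [not_or] at hc
    rw [Γ.psi_fv n0, Γ.psi_ones hik]
    exact iff_of_false (S.not_adj_line Γ.frame hx hy hc.1 hc.2 hc.1 hc' hxy)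
      ((dot_share i j hij k hki hkj).2 c hc.1 hc.2 hc').1
  rcases eq_or_ne s t with rfl | hst
  · rw [fv_fv]; exact base
  by_cases hs : s = i ∨ s = j
  · rw [(Γ.drop_left hij hs (norm_fv n0 t)).1, (Γ.drop_left hij hs (norm_fv n0 t)).2]; exact single t
  by_cases hs' : s = k
  · rw [fv_comm, fv_ones (Or.inr hs')]; exact single t
  by_cases ht : t = i ∨ t = j
  · rw [fv_comm, (Γ.drop_left hij ht (norm_fv n0 s)).1, (Γ.drop_left hij ht (norm_fv n0 s)).2]; exact single s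
  by_cases ht' : t = k
  · rw [fv_ones (Or.inr ht')]; exact single s
  simp only [not_or] at hs ht
  refine iff_of_false ?_ (((dot_share i j hij k hki hkj).2 s hs.1 hs.2 hs').2 t ht.1 ht.2 ht' hst)
  rw [Γ.psi_fv (norm_fv n0 t), Γ.psi_fv n0, Γ.psi_ones hik]
  obtain ⟨e, he⟩ := exists_last' i j k s t (by
    simp [hij, hik, hkj.symm, Ne.symm hs.1, Ne.symm hs.2, Ne.symm hs', Ne.symm ht.1, Ne.symm ht.2, Ne.symm ht', hst])
  show ¬ S.adj (Γ.B i j) (S.tw (Γ.F s) (S.tw (Γ.F t) (Γ.B i k)))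
  rw [S.tw_two_eq Γ.frame hy he, S.adj_tw_left Γ.frame hx (Or.inr rfl)]
  obtain ⟨⟨-, -, hie, -⟩, ⟨-, hke, -⟩, ⟨hje, -⟩, -⟩ := he.ne
  exact S.not_adj_line Γ.frame hx hy hie.symm hje.symm hie.symm hke.symm hxy

theorem adj_disjoint {i j a b : Fin 6} (hij : i ≠ j) (hai : a ≠ i) (haj : a ≠ j) (hbi : b ≠ i) (hbj : b ≠ j)
    (hab : a ≠ b) (s t : Fin 6) :
    S.adj (Γ.B i j) (Γ.psi (fv s (fv t (ones a b)))) ↔ dot (ones i j) (fv s (fv t (ones a b))) = 0 := by
  have n0 := norm_ones hab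
  have hx := Γ.mem i j hij
  have hw := Γ.mem a b hab
  obtain ⟨m, n, hf⟩ := exists_last i j a b (by
    simp [hij, hai.symm, haj.symm, hbi.symm, hbj.symm, hab])
  have hno : ¬ S.adj (Γ.B i j) (Γ.B a b) := by
    intro h
    have h2 := Γ.adj a i b hai hab hbi.symm
    rw [← Γ.symm i a hai.symm] at h2
    exact S.not_adj Γ.frame hw haj.symm hbj.symm (S.adj_symm ((S.triangle Γ.frame hf hx (Γ.mem i a hai.symm)
      (Γ.adj i j a hij hai.symm haj.symm)).2.1 _ h h2 (fun h' => S.not_adj Γ.frame hw hai.symm hbi.symm (S.adj_symm h'))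
        (S.not_range Γ.frame hw) (S.adj_left Γ.frame hw)))
  have base : S.adj (Γ.B i j) (Γ.psi (ones a b)) ↔ dot (ones i j) (ones a b) = 0 := by
    rw [Γ.psi_ones hab]
    exact iff_of_false hno (dot_disjoint i j hij a hai haj b hbi hbj hab).1
  have hmn : ∀ c, c ≠ i → c ≠ j → c ≠ a → c ≠ b → c = m ∨ c = n := by
    intro c h1 h2 h3 h4
    have := Space.four_cases hf c
    omega
  have single : ∀ c, S.adj (Γ.B i j) (Γ.psi (fv c (ones a b))) ↔ dot (ones i j) (fv c (ones a b)) = 0 := by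
    intro c
    by_cases hc : c = i ∨ c = j
    · rw [(Γ.drop_left hij hc n0).1, (Γ.drop_left hij hc n0).2]; exact base
    by_cases hc' : c = a ∨ c = b
    · rw [fv_ones hc']; exact base
    simp only [not_or] at hc hc'
    rw [Γ.psi_fv n0, Γ.psi_ones hab]
    exact iff_of_true ((S.disjoint_flip Γ.frame hf hx hw (hmn c hc.1 hc.2 hc'.1 hc'.2)).2 hno)
      ((dot_disjoint i j hij a hai haj b hbi hbj hab).2 c hc.1 hc.2 hc'.1 hc'.2).1
  rcases eq_or_ne s t with rfl | hst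
  · rw [fv_fv]; exact base
  by_cases hs : s = i ∨ s = j
  · rw [(Γ.drop_left hij hs (norm_fv n0 t)).1, (Γ.drop_left hij hs (norm_fv n0 t)).2]; exact single t
  by_cases hs' : s = a ∨ s = b
  · rw [fv_comm, fv_ones hs']; exact single t
  by_cases ht : t = i ∨ t = j
  · rw [fv_comm, (Γ.drop_left hij ht (norm_fv n0 s)).1, (Γ.drop_left hij ht (norm_fv n0 s)).2]; exact single s
  by_cases ht' : t = a ∨ t = b
  · rw [fv_ones ht']; exact single s
  simp only [not_or] at hs hs' ht ht'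
  refine iff_of_false ?_
    (((dot_disjoint i j hij a hai haj b hbi hbj hab).2 s hs.1 hs.2 hs'.1 hs'.2).2 t ht.1 ht.2 ht'.1 ht'.2 hst)
  rw [Γ.psi_fv (norm_fv n0 t), Γ.psi_fv n0, Γ.psi_ones hab]
  show ¬ S.adj (Γ.B i j) (S.tw (Γ.F s) (S.tw (Γ.F t) (Γ.B a b)))
  rw [S.disjoint_flip Γ.frame hf hx (S.mem_tw Γ.frame hw t) (hmn s hs.1 hs.2 hs'.1 hs'.2),
    S.disjoint_flip Γ.frame hf hx hw (hmn t ht.1 ht.2 ht'.1 ht'.2)]
  exact not_not.2 hno

theorem adj_ones {i j : Fin 6} (hij : i ≠ j) {w : Vec} (hw : dot w w = 1) :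
    S.adj (Γ.B i j) (Γ.psi w) ↔ dot (ones i j) w = 0 := by
  have hneg : ∀ u : Vec, dot u u = 1 → ((S.adj (Γ.B i j) (Γ.psi (-u)) ↔ dot (ones i j) (-u) = 0) ↔
      (S.adj (Γ.B i j) (Γ.psi u) ↔ dot (ones i j) u = 0)) := fun u hu => by
    rw [Γ.psi_neg hu, show dot (ones i j) (-u) = -dot (ones i j) u by simp [dot]; ring, neg_eq_zero]
  rcases norm_shape w hw with ⟨-, t, h⟩ | ⟨h4, hz, s, t, h⟩
  · have hu : S.adj (Γ.B i j) (Γ.psi (unit t)) ↔ dot (ones i j) (unit t) = 0 := by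
      rw [Γ.psi_unit, dot_comm, dot_unit]
      refine (Γ.mem i j hij t).trans ?_
      simp only [ones]
      split_ifs with h' <;> simp [h']
    rcases h with rfl | rfl
    exacts [hu, (hneg _ (unit_facts t).1).2 hu]
  · obtain ⟨a, b, e⟩ : ∃ a b, zeros w = (a, b) := ⟨_, _, rfl⟩
    rw [e] at hz h
    have hz' : a ≠ b := hz
    have main : S.adj (Γ.B i j) (Γ.psi (fv s (fv t (ones a b)))) ↔ dot (ones i j) (fv s (fv t (ones a b))) = 0 := by
      by_cases h1 : a = i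
      · subst h1
        by_cases h2 : b = j
        · subst h2; exact Γ.adj_same hij s t
        · exact Γ.adj_share hij hz'.symm h2 s t
      by_cases h2 : a = j
      · subst h2
        by_cases h3 : b = i
        · subst h3; rw [ones_symm a b]; exact Γ.adj_same hij s t
        · rw [ones_symm i a, Γ.symm i a hij]; exact Γ.adj_share hij.symm hz'.symm h3 s t
      by_cases h3 : b = i
      · subst h3; rw [ones_symm a b]; exact Γ.adj_share hij hz' h2 s t
      by_cases h4 : b = j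
      · subst h4; rw [ones_symm a b, ones_symm i b, Γ.symm i b hij]; exact Γ.adj_share hij.symm hz' h1 s t
      exact Γ.adj_disjoint hij h1 h2 h3 h4 hz' s t
    rcases h with rfl | rfl
    exacts [main, (hneg _ (norm_fv (norm_fv (norm_ones hz') t) s)).2 main]

theorem flips_adj : ∀ (L : List (Fin 6)) {x y : Ω}, S.adj (Γ.flips L x) (Γ.flips L y) ↔ S.adj x y
  | [], _, _ => Iff.rfl
  | k :: L, _, _ => (Γ.τ_adj k).trans (flips_adj L)

theorem dot_fvs (v w : Vec) : ∀ L, dot (fvs L v) (fvs L w) = dot v w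
  | [] => rfl
  | k :: L => (dot_fv k _ _).trans (dot_fvs v w L)

/-- Adjacency is orthogonality. -/
theorem adj_psi {v w : Vec} (hv : dot v v = 1) (hw : dot w w = 1) :
    S.adj (Γ.psi v) (Γ.psi w) ↔ dot v w = 0 := by
  obtain ⟨L, hL⟩ : ∃ L, L = negs v := ⟨_, rfl⟩
  rw [← Γ.flips_adj L, ← Γ.psi_fvs hv, ← Γ.psi_fvs hw, ← dot_fvs v w L]
  have hw' : dot (fvs L w) (fvs L w) = 1 := by rw [norm_fvs, hw]
  rcases normalize v hv with ⟨t, h⟩ | ⟨i, j, hij, h⟩ <;> rw [← hL] at h <;> rw [h]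
  · rw [dot_unit, Γ.psi_unit]
    rcases norm_shape _ hw' with ⟨⟨t', ht'⟩, -⟩ | ⟨h4, -⟩
    · rw [Γ.psi_single ht']
      have hmem := supp_mem (fvs L w) t
      rw [ht', List.mem_singleton] at hmem
      rcases eq_or_ne t t' with rfl | hne
      · exact iff_of_false (S.adj_irrefl _) (hmem.1 rfl)
      · exact iff_of_true (Γ.frame t t' hne) (not_not.1 fun h' => hne (hmem.2 h'))
    · rw [zero_facts _ t h4]
      exact ⟨fun h' => (Γ.psi_mem hw' h4 t).1 (S.adj_symm h'), fun h' => S.adj_symm ((Γ.psi_mem hw' h4 t).2 h')⟩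
  · rw [Γ.psi_ones hij]
    exact Γ.adj_ones hij hw'

theorem test_vectors : ∀ v w : Vec, dot v v = 1 → dot w w = 1 → negs v = [] →
    (∀ t, (dot (unit t) v = 0 ↔ dot (unit t) w = 0)) →
    (∀ a b : Fin 6, a < b → (dot (ones a b) v = 0 ↔ dot (ones a b) w = 0)) → w = v ∨ w = -v := by
  decide +kernel

theorem psi_eq {v w : Vec} (hv : dot v v = 1) (hw : dot w w = 1) (h : Γ.psi v = Γ.psi w) : w = v ∨ w = -v := by
  obtain ⟨L, hL⟩ : ∃ L, L = negs v := ⟨_, rfl⟩
  have h' : Γ.psi (fvs L v) = Γ.psi (fvs L w) := by rw [Γ.psi_fvs hv, Γ.psi_fvs hw, h]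
  have hv' : dot (fvs L v) (fvs L v) = 1 := by rw [norm_fvs, hv]
  have hw' : dot (fvs L w) (fvs L w) = 1 := by rw [norm_fvs, hw]
  have hn : negs (fvs L v) = [] := by
    rcases normalize v hv with ⟨t, e⟩ | ⟨i, j, hij, e⟩ <;> rw [← hL] at e <;> rw [e]
    · exact (by decide : ∀ t : Fin 6, negs (unit t) = []) t
    · exact (ones_facts i j hij).2.2.1
  have key : ∀ {u}, dot u u = 1 → (dot u (fvs L v) = 0 ↔ dot u (fvs L w) = 0) := fun {u} hu => by
    rw [← Γ.adj_psi hu hv', ← Γ.adj_psi hu hw', h']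
  have hcancel : ∀ (M : List (Fin 6)) (a b : Vec), fvs M a = fvs M b → a = b := by
    intro M
    induction M with
    | nil => exact fun a b e => e
    | cons k M ih =>
      intro a b e
      exact ih a b (by simpa [fvs, fv_fv] using congrArg (fv k) e)
  have hnegv : ∀ (M : List (Fin 6)) (a : Vec), fvs M (-a) = -fvs M a := by
    intro M a
    induction M with
    | nil => rfl
    | cons k M ih =>
      show fv k (fvs M (-a)) = -fv k (fvs M a)
      rw [ih]
      funext t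
      simp only [fv, Pi.neg_apply]
      split <;> simp
  rcases test_vectors _ _ hv' hw' hn (fun t => key (unit_facts t).1)
    (fun a b hab => key (norm_ones hab.ne)) with e | e
  · exact Or.inl (hcancel L _ _ e)
  · exact Or.inr (hcancel L _ _ (e.trans (hnegv L v).symm))

/-- Every point belongs to a vector. -/
theorem psi_surj (x : Ω) : ∃ v, dot v v = 1 ∧ Γ.psi v = x := by
  by_cases hx : x ∈ Set.range Γ.F
  · obtain ⟨t, rfl⟩ := hx
    exact ⟨unit t, (unit_facts t).1, Γ.psi_unit t⟩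
  obtain ⟨i, j, hij, h⟩ := S.two Γ.F Γ.frame x hx
  have hxP : x ∈ S.P Γ.F i j := h
  obtain ⟨k, l, m, n, hf⟩ := Space.exists_four i j hij
  have n0 := norm_ones hij
  rcases S.cases_P Γ.frame (Γ.mem i j hij) hf hxP with e | e | e | e | e | e | e | e <;>
    rw [e, ← Γ.psi_ones hij]
  · exact ⟨_, n0, rfl⟩
  iterate 4 exact ⟨_, norm_fv n0 _, Γ.psi_fv n0 _⟩
  all_goals exact ⟨_, norm_fv (norm_fv n0 _) _, by rw [Γ.psi_fv (norm_fv n0 _), Γ.psi_fv n0]; rfl⟩

end Gauge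

end Cfsg.Lib.Fischer.Frame126
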