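import Cfsg.Agent.Lib.Fischer.Frame126.Adj
import Mathlib.GroupTheory.GroupAction.Quotient
import Mathlib.GroupTheory.Index

/-!
# A bound on the automorphisms of a space of 126 points

An adjacency-preserving permutation is determined by the images of a frame and of three base points, which leaves
at most 13063680 of them.
-/

set_option autoImplicit false
set_option linter.unusedSectionVars false

namespace Cfsg.Lib.Fischer.Frame126

universe u

set_option synthInstance.maxSize 512 in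
/-- The fifteen pairs reached from three of them. -/
theorem ones_step_one : ∀ a b : Fin 6, (a, b) ∈ [((0 : Fin 6), (2 : Fin 6)), (0, 3), (0, 4), (5, 2), (5, 3), (5, 4),
    (1, 2), (1, 3), (1, 4)] → ∀ w : Vec, dot w w = 1 →
    (∀ t, dot (unit t) (ones a b) = 0 ↔ dot (unit t) w = 0) →
    (∀ p ∈ [((0 : Fin 6), (5 : Fin 6)), (1, 5), (0, 1)], dot (ones p.1 p.2) (ones a b) = 0 ↔ dot (ones p.1 p.2) w = 0) →
    w = ones a b ∨ w = -ones a b := by
  decide +kernel

set_option synthInstance.maxSize 512 in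
theorem ones_step_two : ∀ a b : Fin 6, (a, b) ∈ [((2 : Fin 6), (3 : Fin 6)), (2, 4), (3, 4)] → ∀ w : Vec, dot w w = 1 →
    (∀ t, dot (unit t) (ones a b) = 0 ↔ dot (unit t) w = 0) →
    (∀ p ∈ [((0 : Fin 6), a), (1, a)], dot (ones p.1 p.2) (ones a b) = 0 ↔ dot (ones p.1 p.2) w = 0) →
    w = ones a b ∨ w = -ones a b := by
  decide +kernel

theorem two_facts : ∀ a b : Fin 6, (a, b) ∈ [((2 : Fin 6), (3 : Fin 6)), (2, 4), (3, 4)] → 0 ≠ a ∧ 1 ≠ a ∧
    (0, a) ∈ [((0 : Fin 6), (2 : Fin 6)), (0, 3), (0, 4), (5, 2), (5, 3), (5, 4), (1, 2), (1, 3), (1, 4)] ∧ (1, a) ∈ [((0 : Fin 6), (2 : Fin 6)), (0, 3), (0, 4), (5, 2), (5, 3), (5, 4), (1, 2), (1, 3), (1, 4)] := by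
  decide

theorem pairs_all : ∀ a b : Fin 6, a < b → (a, b) ∈ [((0 : Fin 6), (5 : Fin 6)), (1, 5), (0, 1)] ∨
    (a, b) ∈ [((0 : Fin 6), (2 : Fin 6)), (0, 3), (0, 4), (5, 2), (5, 3), (5, 4), (1, 2), (1, 3), (1, 4)] ∨
    (b, a) ∈ [((0 : Fin 6), (2 : Fin 6)), (0, 3), (0, 4), (5, 2), (5, 3), (5, 4), (1, 2), (1, 3), (1, 4)] ∨
    (a, b) ∈ [((2 : Fin 6), (3 : Fin 6)), (2, 4), (3, 4)] := by
  decide

/-- The vector with given orthogonality to the units and the base vectors. -/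
def recon (pu : Fin 6 → Bool) (po : Fin 6 → Fin 6 → Bool) : Vec := fun q =>
  let L := (List.finRange 6).filter fun t => !pu t
  let r := (L.filter fun t => decide (t ≠ L.headD 0 ∧ t ≠ q))
  if pu q then 0 else if q = L.headD 0 then 1 else if po (r.getD 0 0) (r.getD 1 0) then -1 else 1

theorem recon_spec : ∀ v : Vec, dot v v = 1 →
    recon (fun t => decide (dot (unit t) v = 0)) (fun a b => decide (a ≠ b) && decide (dot (ones a b) v = 0)) = v ∨
      recon (fun t => decide (dot (unit t) v = 0)) (fun a b => decide (a ≠ b) && decide (dot (ones a b) v = 0)) = -v := by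
  decide +kernel

theorem eq_of_pattern {v w : Vec} (hv : dot v v = 1) (hw : dot w w = 1)
    (h1 : ∀ t, dot (unit t) v = 0 ↔ dot (unit t) w = 0)
    (h2 : ∀ a b, a ≠ b → (dot (ones a b) v = 0 ↔ dot (ones a b) w = 0)) : w = v ∨ w = -v := by
  have e : recon (fun t => decide (dot (unit t) v = 0))
        (fun a b => decide (a ≠ b) && decide (dot (ones a b) v = 0)) =
      recon (fun t => decide (dot (unit t) w = 0))
        (fun a b => decide (a ≠ b) && decide (dot (ones a b) w = 0)) := by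
    congr 1
    · funext t; simp only [h1 t]
    · funext a b
      by_cases hab : a = b
      · simp [hab]
      · simp only [h2 a b hab]
  rcases recon_spec v hv with a | a <;> rcases recon_spec w hw with b | b <;> rw [a, b] at e
  · exact Or.inl e.symm
  · exact Or.inr (by rw [e, neg_neg])
  · exact Or.inr e.symm
  · exact Or.inl (neg_injective e).symm

theorem card_step {Ω : Type u} [Finite Ω] (H : Subgroup (Equiv.Perm Ω)) (x : Ω) {U : Set Ω} {n : ℕ}
    (hU : ∀ σ ∈ H, σ x ∈ U) (hn : U.ncard ≤ n) :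
    Nat.card H ≤ n * Nat.card ↥(H ⊓ MulAction.stabilizer (Equiv.Perm Ω) x) := by
  rw [← (MulAction.stabilizer H x).card_mul_index, MulAction.index_stabilizer, mul_comm]
  refine Nat.mul_le_mul (le_trans (Set.ncard_le_ncard ?_ (Set.toFinite _)) hn) (le_of_eq (Nat.card_congr
    ⟨fun s => ⟨s.1.1, s.1.2, s.2⟩, fun s => ⟨⟨s.1, s.2.1⟩, s.2.2⟩, fun _ => rfl, fun _ => rfl⟩))
  rintro _ ⟨σ, rfl⟩
  exact hU σ.1 σ.2

namespace Space

variable {Ω : Type u} (S : Space Ω)

/-- The adjacency-preserving permutations. -/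
def autGroup : Subgroup (Equiv.Perm Ω) where
  carrier := {σ | ∀ x y, S.adj (σ x) (σ y) ↔ S.adj x y}
  mul_mem' := fun {σ τ} hσ hτ x y => (hσ (τ x) (τ y)).trans (hτ x y)
  one_mem' := fun _ _ => Iff.rfl
  inv_mem' := fun {σ} hσ x y => by
    have := hσ (σ⁻¹ x) (σ⁻¹ y)
    simpa using this.symm

variable {F : Fin 6 → Ω} (hF : S.IsFrame F)
include hF

theorem range_or_P (x : Ω) : x ∈ Set.range F ∨ ∃ i j, i ≠ j ∧ x ∈ S.P F i j := by
  by_cases h : x ∈ Set.range F
  exacts [Or.inl h, Or.inr (S.two F hF x h)]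

theorem ncard_adj_one : {x | S.adj x (F 0)}.ncard ≤ 45 := by
  classical
  haveI := S.finite
  have hsub : {x | S.adj x (F 0)} ⊆
      F '' {k | k ≠ 0} ∪ (S.P F 0 1 ∪ (S.P F 0 2 ∪ (S.P F 0 3 ∪ (S.P F 0 4 ∪ S.P F 0 5)))) := by
    intro x hx
    rcases S.range_or_P hF x with ⟨k, rfl⟩ | ⟨i, j, hij, h⟩
    · exact Or.inl ⟨k, fun e => S.adj_irrefl _ (e ▸ hx), rfl⟩
    obtain ⟨t, ht0, ht⟩ : ∃ t, t ≠ 0 ∧ x ∈ S.P F 0 t := by
      rcases (h 0).1 hx with e | e
      exacts [⟨j, fun e' => hij (e.symm.trans e'.symm), e ▸ h⟩,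
        ⟨i, fun e' => hij (e'.trans e), by rw [S.P_symm]; exact e ▸ h⟩]
    right
    fin_cases t
    · exact absurd rfl ht0
    · exact Or.inl ht
    · exact Or.inr (Or.inl ht)
    · exact Or.inr (Or.inr (Or.inl ht))
    · exact Or.inr (Or.inr (Or.inr (Or.inl ht)))
    · exact Or.inr (Or.inr (Or.inr (Or.inr ht)))
  have h5 : (F '' {k | k ≠ 0}).ncard ≤ 5 := (Set.ncard_image_le (Set.toFinite _)).trans (le_of_eq (by
    rw [Set.ncard_eq_toFinset_card']; decide))
  have h8 : ∀ t, t ≠ 0 → (S.P F 0 t).ncard = 8 := fun t ht => S.eight F hF 0 t ht.symm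
  refine (Set.ncard_le_ncard hsub (Set.toFinite _)).trans ?_
  grw [Set.ncard_union_le, Set.ncard_union_le, Set.ncard_union_le, Set.ncard_union_le, Set.ncard_union_le, h5,
    h8 1 (by decide), h8 2 (by decide), h8 3 (by decide), h8 4 (by decide), h8 5 (by decide)]

theorem ncard_adj_two : {x | S.adj x (F 0) ∧ S.adj x (F 1)}.ncard ≤ 12 := by
  classical
  haveI := S.finite
  have hsub : {x | S.adj x (F 0) ∧ S.adj x (F 1)} ⊆ F '' {k | k ≠ 0 ∧ k ≠ 1} ∪ S.P F 0 1 := by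
    rintro x ⟨h0, h1⟩
    rcases S.range_or_P hF x with ⟨k, rfl⟩ | ⟨i, j, hij, h⟩
    · exact Or.inl ⟨k, ⟨fun e => S.adj_irrefl _ (e ▸ h0), fun e => S.adj_irrefl _ (e ▸ h1)⟩, rfl⟩
    have a := (h 0).1 h0
    have b := (h 1).1 h1
    right
    obtain ⟨rfl, rfl⟩ | ⟨rfl, rfl⟩ : i = 0 ∧ j = 1 ∨ i = 1 ∧ j = 0 := by omega
    exacts [h, by rw [S.P_symm]; exact h]
  have h4 : (F '' {k | k ≠ 0 ∧ k ≠ 1}).ncard ≤ 4 := (Set.ncard_image_le (Set.toFinite _)).trans (le_of_eq (by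
    rw [Set.ncard_eq_toFinset_card']; decide))
  refine (Set.ncard_le_ncard hsub (Set.toFinite _)).trans ?_
  grw [Set.ncard_union_le, h4, show (S.P F 0 1).ncard = 8 from S.eight F hF 0 1 (by decide)]

theorem adj_many {n : ℕ} (hn : 3 ≤ n) :
    {x | ∀ k : Fin 6, (k : ℕ) < n → S.adj x (F k)} ⊆ F '' {k | n ≤ (k : ℕ)} := by
  intro x hx
  rcases S.range_or_P hF x with ⟨k, rfl⟩ | ⟨i, j, hij, h⟩
  · exact ⟨k, not_lt.1 fun hk => S.adj_irrefl _ (hx k hk), rfl⟩
  have a := (h 0).1 (hx 0 (show (0 : ℕ) < n by omega))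
  have b := (h 1).1 (hx 1 (show (1 : ℕ) < n by omega))
  have c := (h 2).1 (hx 2 (show (2 : ℕ) < n by omega))
  omega

theorem ncard_share {i j k : Fin 6} (hij : i ≠ j) (hik : i ≠ k) (hjk : j ≠ k) {x : Ω} (hx : x ∈ S.P F i j) :
    {y | y ∈ S.P F i k ∧ S.adj x y}.ncard ≤ 2 := by
  haveI := S.finite
  obtain ⟨l, m, n, h⟩ := exists_three' i j k ⟨hij, hik, hjk⟩
  obtain ⟨y, hy, hxy⟩ := S.share_exists hF hij hik hjk hx
  refine (Set.ncard_le_ncard (t := {y, S.tw (F j) y}) (fun y' hy' => ?_) (Set.toFinite _)).trans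
    ((Set.ncard_insert_le _ _).trans (by rw [Set.ncard_singleton]))
  rcases (S.share_iff hF h hx hy hxy hy'.1).1 hy'.2 with e | e <;> simp [e]

end Space

namespace Gauge

variable {Ω : Type u} {S : Space Ω} (Γ : Gauge S)

/-- An automorphism fixing the frame and three base points fixes everything. -/
theorem aut_eq_one {σ : Equiv.Perm Ω} (hσ : σ ∈ S.autGroup) (hF : ∀ i, σ (Γ.F i) = Γ.F i)
    (hB : ∀ p ∈ [((0 : Fin 6), (5 : Fin 6)), (1, 5), (0, 1)], σ (Γ.B p.1 p.2) = Γ.B p.1 p.2) : σ = 1 := by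
  have pat : ∀ {u v w : Vec}, dot u u = 1 → dot v v = 1 → dot w w = 1 → σ (Γ.psi u) = Γ.psi u →
      Γ.psi w = σ (Γ.psi v) → (dot u v = 0 ↔ dot u w = 0) := fun {u v w} hu hv hw hfix h => by
    rw [← Γ.adj_psi hu hv, ← Γ.adj_psi hu hw, h, ← hσ (Γ.psi u) (Γ.psi v), hfix]
  have units : ∀ t, σ (Γ.psi (unit t)) = Γ.psi (unit t) := fun t => by rw [Γ.psi_unit]; exact hF t
  have fix : ∀ {a b : Fin 6}, a ≠ b → (∀ w : Vec, dot w w = 1 → Γ.psi w = σ (Γ.psi (ones a b)) →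
      w = ones a b ∨ w = -ones a b) → σ (Γ.B a b) = Γ.B a b := by
    intro a b hab h
    obtain ⟨w, hw, e⟩ := Γ.psi_surj (σ (Γ.psi (ones a b)))
    rw [← Γ.psi_ones hab, ← e]
    rcases h w hw e with rfl | rfl
    exacts [rfl, Γ.psi_neg (norm_ones hab)]
  have stage : ∀ {a b : Fin 6}, a ≠ b → ∀ {w : Vec}, dot w w = 1 → Γ.psi w = σ (Γ.psi (ones a b)) →
      ∀ p : Fin 6 × Fin 6, p.1 ≠ p.2 → σ (Γ.B p.1 p.2) = Γ.B p.1 p.2 →
      (dot (ones p.1 p.2) (ones a b) = 0 ↔ dot (ones p.1 p.2) w = 0) := fun {a b} hab {w} hw h p hp hfix =>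
    pat (norm_ones hp) (norm_ones hab) hw (by rw [Γ.psi_ones hp]; exact hfix) h
  have one : ∀ a b : Fin 6, (a, b) ∈ [((0 : Fin 6), (2 : Fin 6)), (0, 3), (0, 4), (5, 2), (5, 3), (5, 4), (1, 2),
      (1, 3), (1, 4)] → σ (Γ.B a b) = Γ.B a b := fun a b h => by
    have hab : a ≠ b := by revert a b; decide
    exact fix hab fun w hw e => ones_step_one a b h w hw
      (fun t => pat (unit_facts t).1 (norm_ones hab) hw (units t) e)
      fun p hp => stage hab hw e p (by revert p; decide) (hB p hp)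
  have two : ∀ a b : Fin 6, (a, b) ∈ [((2 : Fin 6), (3 : Fin 6)), (2, 4), (3, 4)] → σ (Γ.B a b) = Γ.B a b :=
    fun a b h => by
    have hab : a ≠ b := by revert a b; decide
    refine fix hab fun w hw e => ones_step_two a b h w hw
      (fun t => pat (unit_facts t).1 (norm_ones hab) hw (units t) e) ?_
    simp only [List.forall_mem_cons, List.not_mem_nil, false_imp_iff, implies_true, and_true]
    obtain ⟨f1, f2, f3, f4⟩ := two_facts a b h
    exact ⟨stage hab hw e (0, a) f1 (one 0 a f3), stage hab hw e (1, a) f2 (one 1 a f4)⟩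
  have all : ∀ a b : Fin 6, a ≠ b → σ (Γ.B a b) = Γ.B a b := by
    have lt : ∀ a b : Fin 6, a < b → σ (Γ.B a b) = Γ.B a b := fun a b h => by
      rcases pairs_all a b h with h' | h' | h' | h'
      exacts [hB (a, b) h', one a b h', by rw [Γ.symm a b h.ne]; exact one b a h', two a b h']
    intro a b h
    rcases lt_or_gt_of_ne h with h' | h'
    exacts [lt a b h', by rw [Γ.symm a b h]; exact lt b a h']
  refine Equiv.ext fun x => ?_
  obtain ⟨v, hv, rfl⟩ := Γ.psi_surj x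
  obtain ⟨w, hw, e⟩ := Γ.psi_surj (σ (Γ.psi v))
  show σ (Γ.psi v) = Γ.psi v
  rw [← e]
  rcases eq_of_pattern hv hw (fun t => pat (unit_facts t).1 hv hw (units t) e)
    (fun a b hab => pat (norm_ones hab) hv hw (by rw [Γ.psi_ones hab]; exact all a b hab) e) with rfl | rfl
  · rfl
  · exact Γ.psi_neg hv

end Gauge

namespace Space

variable {Ω : Type u} (S : Space Ω)

set_option maxHeartbeats 1600000 in
/-- The order of an automorphism group is at most 13063680. -/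
theorem card_autGroup_le : Nat.card S.autGroup ≤ 13063680 := by
  haveI := S.finite
  obtain ⟨F, hF, -⟩ := S.extend ∅ (by simp)
  obtain ⟨Γ, rfl⟩ := S.exists_gauge hF
  obtain ⟨H, hH⟩ : ∃ H : List Ω → Subgroup (Equiv.Perm Ω),
      ∀ l σ, σ ∈ H l ↔ σ ∈ S.autGroup ∧ ∀ x ∈ l, σ x = x := ⟨fun l => l.foldr
    (fun x K => K ⊓ MulAction.stabilizer (Equiv.Perm Ω) x) S.autGroup, fun l => by
      induction l with
      | nil => simp
      | cons x l ih =>
        intro σ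
        simp only [List.foldr_cons, Subgroup.mem_inf, ih, MulAction.mem_stabilizer_iff, Equiv.Perm.smul_def,
          List.forall_mem_cons]
        tauto⟩
  have hcons : ∀ (x : Ω) (l : List Ω) {U : Set Ω} {n : ℕ}, (∀ σ ∈ H l, σ x ∈ U) → U.ncard ≤ n →
      Nat.card (H l) ≤ n * Nat.card (H (x :: l)) := by
    intro x l U n hU hn
    refine (card_step (H l) x hU hn).trans (le_of_eq ?_)
    congr 2
    congr 1
    ext σ
    simp only [hH, Subgroup.mem_inf, MulAction.mem_stabilizer_iff, Equiv.Perm.smul_def, List.forall_mem_cons]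
    tauto
  have hA : ∀ {l : List Ω} {σ : Equiv.Perm Ω}, σ ∈ H l → ∀ {x y}, y ∈ l → S.adj x y → S.adj (σ x) y := by
    intro l σ hσ x y hy h
    rw [← ((hH l σ).1 hσ).2 y hy]
    exact (((hH l σ).1 hσ).1 x y).2 h
  have hP : ∀ {l : List Ω} {σ : Equiv.Perm Ω}, σ ∈ H l → (∀ k, Γ.F k ∈ l) → ∀ i j, i ≠ j →
      σ (Γ.B i j) ∈ S.P Γ.F i j := by
    intro l σ hσ hl i j hij k
    rw [← ((hH l σ).1 hσ).2 _ (hl k), ((hH l σ).1 hσ).1 _ _]
    exact Γ.mem i j hij k
  let f := Γ.F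
  have fr : ∀ {i j : Fin 6}, i ≠ j → S.adj (f i) (f j) := fun h => Γ.frame _ _ h
  have many : ∀ {l : List Ω} (n : Fin 6), 3 ≤ (n : ℕ) → (∀ k : Fin 6, (k : ℕ) < n → f k ∈ l) →
      ∀ σ ∈ H l, σ (f n) ∈ f '' {k | (n : ℕ) ≤ k} := fun {l} n hn hl σ hσ =>
    S.adj_many Γ.frame hn fun k hk => hA hσ (hl k hk) (fr fun e => by simp [e] at hk)
  have small : ∀ (n : Fin 6), (f '' {k | (n : ℕ) ≤ k}).ncard ≤ 6 - (n : ℕ) := fun n =>
    (Set.ncard_image_le (Set.toFinite _)).trans (le_of_eq (by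
      rw [Set.ncard_eq_toFinset_card']; revert n; decide))
  have c0 := hcons (f 0) [] (U := Set.univ) (fun σ _ => trivial) (by rw [Set.ncard_univ, S.card])
  have c1 := hcons (f 1) [f 0] (U := {x | S.adj x (f 0)})
    (fun σ hσ => hA hσ (by simp) (fr (by decide))) (S.ncard_adj_one Γ.frame)
  have c2 := hcons (f 2) [f 1, f 0] (U := {x | S.adj x (f 0) ∧ S.adj x (f 1)})
    (fun σ hσ => ⟨hA hσ (by simp) (fr (by decide)), hA hσ (by simp) (fr (by decide))⟩) (S.ncard_adj_two Γ.frame)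
  have c3 := hcons (f 3) [f 2, f 1, f 0] (many 3 (by decide) fun k hk => by fin_cases k <;> simp_all) (small 3)
  have c4 := hcons (f 4) [f 3, f 2, f 1, f 0] (many 4 (by decide) fun k hk => by fin_cases k <;> simp_all) (small 4)
  have c5 := hcons (f 5) [f 4, f 3, f 2, f 1, f 0] (many 5 (by decide) fun k hk => by fin_cases k <;> simp_all)
    (small 5)
  obtain ⟨l6, hl6⟩ : ∃ l6, l6 = [f 5, f 4, f 3, f 2, f 1, f 0] := ⟨_, rfl⟩
  rw [← hl6] at c5
  have hl : ∀ k, Γ.F k ∈ l6 := fun k => by fin_cases k <;> simp [hl6, f]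
  have c6 := hcons (Γ.B 0 5) l6 (U := S.P f 0 5) (fun σ hσ => hP hσ hl 0 5 (by decide))
    (le_of_eq (S.eight f Γ.frame 0 5 (by decide)))
  have c7 := hcons (Γ.B 1 5) (Γ.B 0 5 :: l6) (U := {y | y ∈ S.P f 5 1 ∧ S.adj (Γ.B 0 5) y}) (fun σ hσ =>
      ⟨by rw [S.P_symm]; exact hP hσ (fun k => List.mem_cons_of_mem _ (hl k)) 1 5 (by decide),
        S.adj_symm (hA hσ (List.mem_cons_self ..) (by
          have := Γ.adj 5 1 0 (by decide) (by decide) (by decide)
          rwa [← Γ.symm 1 5 (by decide), ← Γ.symm 0 5 (by decide)] at this))⟩)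
    (S.ncard_share Γ.frame (i := 5) (j := 0) (k := 1) (by decide) (by decide) (by decide)
      (by rw [S.P_symm]; exact Γ.mem 0 5 (by decide)))
  have c8 := hcons (Γ.B 0 1) (Γ.B 1 5 :: Γ.B 0 5 :: l6) (U := {y | y ∈ S.P f 0 1 ∧ S.adj (Γ.B 0 5) y}) (fun σ hσ =>
      ⟨hP hσ (fun k => List.mem_cons_of_mem _ (List.mem_cons_of_mem _ (hl k))) 0 1 (by decide),
        S.adj_symm (hA hσ (List.mem_cons_of_mem _ (List.mem_cons_self ..))
          (Γ.adj 0 1 5 (by decide) (by decide) (by decide)))⟩)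
    (S.ncard_share Γ.frame (i := 0) (j := 5) (k := 1) (by decide) (by decide) (by decide) (Γ.mem 0 5 (by decide)))
  have c9 : Nat.card (H (Γ.B 0 1 :: Γ.B 1 5 :: Γ.B 0 5 :: l6)) = 1 := by
    rw [Subgroup.card_eq_one, Subgroup.eq_bot_iff_forall]
    intro σ hσ
    rw [hH] at hσ
    refine Γ.aut_eq_one hσ.1 (fun i => hσ.2 _ (List.mem_cons_of_mem _ (List.mem_cons_of_mem _
      (List.mem_cons_of_mem _ (hl i))))) ?_
    simp only [List.forall_mem_cons, List.not_mem_nil, false_imp_iff, implies_true, and_true]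
    exact ⟨hσ.2 _ (by simp), hσ.2 _ (by simp), hσ.2 _ (by simp)⟩
  have hnil : H [] = S.autGroup := by ext σ; simp [hH]
  rw [← hnil]
  grw [c0, c1, c2, c3, c4, c5, c6, c7, c8, c9]
  decide

/-- A group acting by adjacency-preserving permutations has image of order at most 13063680. -/
theorem card_range_le {K : Type*} [Group K] (φ : K →* Equiv.Perm Ω)
    (h : ∀ g x y, S.adj x y → S.adj (φ g x) (φ g y)) : Nat.card φ.range ≤ 13063680 := by
  haveI := S.finite
  refine (Subgroup.card_le_of_le ?_).trans S.card_autGroup_le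
  rintro _ ⟨g, rfl⟩ x y
  refine ⟨fun h' => ?_, h g x y⟩
  have := h g⁻¹ _ _ h'
  simpa using this

end Space

end Cfsg.Lib.Fischer.Frame126
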