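import Mathlib.Data.Set.Card
import Mathlib.Data.Fintype.Fin
import Mathlib.Data.Fin.VecNotation
import Mathlib.Tactic.FinCases
import Mathlib.Tactic.NormNum
import Mathlib.Tactic.SplitIfs

/-!
# A space of 126 points with six-member frames

Every point outside a frame of six mutually adjacent points is adjacent to exactly two of them, eight points to each
pair, and each point comes with an involutory automorphism moving exactly its non-neighbours.
-/

set_option autoImplicit false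

namespace Cfsg.Lib.Fischer.Frame126

universe u

/-- Adjacency with a transposition for each point. -/
structure Space (Ω : Type u) where
  adj : Ω → Ω → Prop
  tw : Ω → Ω → Ω
  adj_symm : ∀ {x y}, adj x y → adj y x
  adj_irrefl : ∀ x, ¬ adj x x
  adj_tw : ∀ p {x y}, adj x y → adj (tw p x) (tw p y)
  tw_tw : ∀ p x, tw p (tw p x) = x
  tw_fix : ∀ {p x}, adj p x → tw p x = x
  tw_self : ∀ p, tw p p = p
  tw_move : ∀ {p x}, p ≠ x → ¬ adj p x → tw p x ≠ x
  tw_swap : ∀ {p x}, p ≠ x → ¬ adj p x → tw p x = tw x p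
  tw_comm : ∀ {p q}, adj p q → ∀ x, tw p (tw q x) = tw q (tw p x)
  card : Nat.card Ω = 126
  extend : ∀ S : Set Ω, (∀ x ∈ S, ∀ y ∈ S, x ≠ y → adj x y) →
    ∃ F : Fin 6 → Ω, (∀ i j, i ≠ j → adj (F i) (F j)) ∧ S ⊆ Set.range F
  two : ∀ F : Fin 6 → Ω, (∀ i j, i ≠ j → adj (F i) (F j)) → ∀ x, x ∉ Set.range F →
    ∃ i j, i ≠ j ∧ ∀ k, adj x (F k) ↔ k = i ∨ k = j
  eight : ∀ F : Fin 6 → Ω, (∀ i j, i ≠ j → adj (F i) (F j)) → ∀ i j, i ≠ j →
    {x | ∀ k, adj x (F k) ↔ k = i ∨ k = j}.ncard = 8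

/-- The six indices. -/
abbrev Four (i j k l m n : Fin 6) : Prop := [i, j, k, l, m, n].Nodup

namespace Space

variable {Ω : Type u} (S : Space Ω)
include S

/-- Six mutually adjacent points. -/
def IsFrame (F : Fin 6 → Ω) : Prop := ∀ i j, i ≠ j → S.adj (F i) (F j)

/-- The points adjacent to exactly two given members of a frame. -/
def P (F : Fin 6 → Ω) (i j : Fin 6) : Set Ω := {x | ∀ k, S.adj x (F k) ↔ k = i ∨ k = j}

theorem finite : Finite Ω := Nat.finite_of_card_ne_zero (by rw [S.card]; norm_num)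

theorem ne_of_adj {x y : Ω} (h : S.adj x y) : x ≠ y := fun e => S.adj_irrefl y (e ▸ h)

theorem adj_tw_iff (p : Ω) {x y : Ω} : S.adj (S.tw p x) (S.tw p y) ↔ S.adj x y :=
  ⟨fun h => by simpa [S.tw_tw] using S.adj_tw p h, S.adj_tw p⟩

theorem tw_inj (p : Ω) {x y : Ω} (h : S.tw p x = S.tw p y) : x = y := by
  rw [← S.tw_tw p x, h, S.tw_tw]

/-- A point adjacent to two points of a line is adjacent to the third. -/
theorem adj_line {x y q : Ω} (h : S.adj x y) (h' : S.adj x (S.tw y q)) : S.adj x q := by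
  have := S.adj_tw y h'
  rwa [S.tw_fix (S.adj_symm h), S.tw_tw] at this

variable {F : Fin 6 → Ω} (hF : S.IsFrame F)
include hF

theorem frame_inj : Function.Injective F := fun i j h => by
  by_contra hij
  exact S.ne_of_adj (hF i j hij) h

theorem eq_of_frames {G : Fin 6 → Ω} (hG : S.IsFrame G) {a b c : Fin 6} (hab : a ≠ b) (hac : a ≠ c) (hbc : b ≠ c)
    (ha : G a ∈ Set.range F) (hb : G b ∈ Set.range F) (hc : G c ∈ Set.range F) : Set.range G = Set.range F := by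
  haveI := S.finite
  refine Set.eq_of_subset_of_ncard_le ?_ (by
    rw [Set.ncard_range_of_injective (S.frame_inj hF), Set.ncard_range_of_injective (S.frame_inj hG)])
  rintro _ ⟨t, rfl⟩
  by_contra ht
  obtain ⟨i, j, hij, h⟩ := S.two F hF (G t) ht
  obtain ⟨a', ha'⟩ := ha
  obtain ⟨b', hb'⟩ := hb
  obtain ⟨c', hc'⟩ := hc
  have ne : ∀ {s : Fin 6}, G s ∈ Set.range F → t ≠ s := fun hs e => ht (e ▸ hs)
  have h1 := (h a').1 (ha' ▸ hG t a (ne ⟨a', ha'⟩))
  have h2 := (h b').1 (hb' ▸ hG t b (ne ⟨b', hb'⟩))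
  have h3 := (h c').1 (hc' ▸ hG t c (ne ⟨c', hc'⟩))
  have n1 : a' ≠ b' := fun e => hab (S.frame_inj hG (by rw [← ha', ← hb', e]))
  have n2 : a' ≠ c' := fun e => hac (S.frame_inj hG (by rw [← ha', ← hc', e]))
  have n3 : b' ≠ c' := fun e => hbc (S.frame_inj hG (by rw [← hb', ← hc', e]))
  omega

theorem exists_mem {i j : Fin 6} (h : i ≠ j) : ∃ x, x ∈ S.P F i j :=
  Set.nonempty_of_ncard_ne_zero (s := S.P F i j) (by rw [show (S.P F i j).ncard = 8 from S.eight F hF i j h]; norm_num)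

omit hF in
theorem P_symm (i j : Fin 6) : S.P F i j = S.P F j i := by
  ext x
  simp only [P, Set.mem_ofPred_eq, or_comm]

variable {i j : Fin 6} {x : Ω}

theorem not_range (hx : x ∈ S.P F i j) : x ∉ Set.range F := by
  rintro ⟨k, rfl⟩
  obtain ⟨a, b, ha, hb, hab⟩ : ∃ a b : Fin 6, a ≠ k ∧ b ≠ k ∧ a ≠ b ∧ (a ≠ i ∧ a ≠ j) :=
    (by decide : ∀ i j k : Fin 6, ∃ a b : Fin 6, a ≠ k ∧ b ≠ k ∧ a ≠ b ∧ (a ≠ i ∧ a ≠ j)) i j k
  rcases (hx a).1 (hF k a ha.symm) with e | e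
  exacts [hab.2.1 e, hab.2.2 e]

theorem adj_left (hx : x ∈ S.P F i j) : S.adj x (F i) := (hx i).2 (Or.inl rfl)

theorem adj_right (hx : x ∈ S.P F i j) : S.adj x (F j) := (hx j).2 (Or.inr rfl)

theorem not_adj (hx : x ∈ S.P F i j) {k : Fin 6} (hi : k ≠ i) (hj : k ≠ j) : ¬ S.adj (F k) x := fun h =>
  ((hx k).1 (S.adj_symm h)).elim hi hj

theorem mem_tw (hx : x ∈ S.P F i j) (k : Fin 6) : S.tw (F k) x ∈ S.P F i j := by
  intro l
  have hfix : S.tw (F k) (F l) = F l := by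
    rcases eq_or_ne k l with rfl | h
    exacts [S.tw_self _, S.tw_fix (hF k l h)]
  rw [← hfix, S.adj_tw_iff]
  exact hx l

theorem tw_eq_self (hx : x ∈ S.P F i j) {k : Fin 6} (h : k = i ∨ k = j) : S.tw (F k) x = x :=
  S.tw_fix (S.adj_symm ((hx k).2 h))

theorem tw_ne (hx : x ∈ S.P F i j) {k : Fin 6} (hi : k ≠ i) (hj : k ≠ j) : S.tw (F k) x ≠ x :=
  S.tw_move (fun e => S.not_range hF hx ⟨k, e⟩) (S.not_adj hF hx hi hj)

theorem not_adj_tw (hx : x ∈ S.P F i j) {k : Fin 6} (hi : k ≠ i) (hj : k ≠ j) : ¬ S.adj x (S.tw (F k) x) := by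
  intro h
  have h1 := S.adj_symm h
  rw [S.tw_swap (fun e => S.not_range hF hx ⟨k, e⟩) (S.not_adj hF hx hi hj)] at h1
  have h2 : S.adj (S.tw x (S.tw x (F k))) (S.tw x x) := S.adj_tw x h1
  rw [S.tw_tw, S.tw_self] at h2
  exact S.not_adj hF hx hi hj h2

theorem tw_frame_comm (k l : Fin 6) (y : Ω) : S.tw (F k) (S.tw (F l) y) = S.tw (F l) (S.tw (F k) y) := by
  rcases eq_or_ne k l with rfl | h
  exacts [rfl, S.tw_comm (hF k l h) y]

theorem adj_tw_two (hx : x ∈ S.P F i j) {k l : Fin 6} (hki : k ≠ i) (hkj : k ≠ j) (hli : l ≠ i) (hlj : l ≠ j)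
    (hkl : k ≠ l) : S.adj x (S.tw (F k) (S.tw (F l) x)) := by
  have e : ∀ {m : Fin 6}, m ≠ i → m ≠ j → S.tw (F m) x = S.tw x (F m) := fun h1 h2 =>
    S.tw_swap (fun e => S.not_range hF hx ⟨_, e⟩) (S.not_adj hF hx h1 h2)
  have h : S.adj (S.tw (F k) x) (S.tw (F l) x) := by
    rw [e hki hkj, e hli hlj]; exact S.adj_tw x (hF k l hkl)
  have := S.adj_tw (F k) h
  rwa [S.tw_tw] at this

theorem tw_single_inj (hx : x ∈ S.P F i j) {k l : Fin 6} (hki : k ≠ i) (hkj : k ≠ j) (hli : l ≠ i) (hlj : l ≠ j)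
    (h : S.tw (F k) x = S.tw (F l) x) : k = l := by
  rw [S.tw_swap (fun e => S.not_range hF hx ⟨_, e⟩) (S.not_adj hF hx hki hkj),
    S.tw_swap (fun e => S.not_range hF hx ⟨_, e⟩) (S.not_adj hF hx hli hlj)] at h
  exact S.frame_inj hF (S.tw_inj x h)

omit hF S in
theorem exists_four (i j : Fin 6) (h : i ≠ j) : ∃ k l m n, Four i j k l m n := by
  revert i j
  decide

omit hF S in
theorem four_cases {i j k l m n : Fin 6} (h : Four i j k l m n) (t : Fin 6) :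
    t = i ∨ t = j ∨ t = k ∨ t = l ∨ t = m ∨ t = n := by
  have hu : [i, j, k, l, m, n].toFinset = Finset.univ :=
    Finset.eq_univ_of_card _ (by rw [List.toFinset_card_of_nodup h]; rfl)
  simpa using (Finset.ext_iff.1 hu t).2 (Finset.mem_univ t)

/-- The eight points of a pair. -/
theorem cases_P (hx : x ∈ S.P F i j) {k l m n : Fin 6} (h : Four i j k l m n) {y : Ω} (hy : y ∈ S.P F i j) :
    y = x ∨ y = S.tw (F k) x ∨ y = S.tw (F l) x ∨ y = S.tw (F m) x ∨ y = S.tw (F n) x ∨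
      y = S.tw (F k) (S.tw (F l) x) ∨ y = S.tw (F k) (S.tw (F m) x) ∨ y = S.tw (F k) (S.tw (F n) x) := by
  classical
  haveI := S.finite
  simp only [Four, List.nodup_cons, List.mem_cons, List.not_mem_nil, or_false, not_or, List.nodup_nil,
    and_true, not_false_eq_true] at h
  obtain ⟨⟨hij, hik, hil, him, hin⟩, ⟨hjk, hjl, hjm, hjn⟩, ⟨hkl, hkm, hkn⟩, ⟨hlm, hln⟩, hmn⟩ := h
  obtain ⟨L, hL⟩ : ∃ L : List Ω, L = [x, S.tw (F k) x, S.tw (F l) x, S.tw (F m) x, S.tw (F n) x,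
      S.tw (F k) (S.tw (F l) x), S.tw (F k) (S.tw (F m) x), S.tw (F k) (S.tw (F n) x)] := ⟨_, rfl⟩
  have hmem : ∀ u ∈ L, u ∈ S.P F i j := by
    simp only [hL, List.forall_mem_cons]
    exact ⟨hx, S.mem_tw hF hx k, S.mem_tw hF hx l, S.mem_tw hF hx m, S.mem_tw hF hx n,
      S.mem_tw hF (S.mem_tw hF hx l) k, S.mem_tw hF (S.mem_tw hF hx m) k, S.mem_tw hF (S.mem_tw hF hx n) k,
      by simp⟩
  have n1 : ∀ {a}, a ≠ i → a ≠ j → ¬ S.adj x (S.tw (F a) x) := fun h1 h2 => S.not_adj_tw hF hx h1 h2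
  have a2 : ∀ {b}, b ≠ i → b ≠ j → k ≠ b → S.adj x (S.tw (F k) (S.tw (F b) x)) := fun h1 h2 h3 =>
    S.adj_tw_two hF hx (Ne.symm hik) (Ne.symm hjk) h1 h2 h3
  have s1 : ∀ {a b}, a ≠ i → a ≠ j → b ≠ i → b ≠ j → a ≠ b → S.tw (F a) x ≠ S.tw (F b) x :=
    fun h1 h2 h3 h4 h5 e => h5 (S.tw_single_inj hF hx h1 h2 h3 h4 e)
  have ne0 : ∀ {a}, a ≠ i → a ≠ j → x ≠ S.tw (F a) x := fun h1 h2 e => S.tw_ne hF hx h1 h2 e.symm
  have ne2 : ∀ {b}, b ≠ i → b ≠ j → k ≠ b → x ≠ S.tw (F k) (S.tw (F b) x) := fun h1 h2 h3 =>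
    S.ne_of_adj (a2 h1 h2 h3)
  have mix : ∀ {a b}, a ≠ i → a ≠ j → b ≠ i → b ≠ j → k ≠ b → S.tw (F a) x ≠ S.tw (F k) (S.tw (F b) x) :=
    fun h1 h2 h3 h4 h5 e => n1 h1 h2 (e ▸ a2 h3 h4 h5)
  have dd : ∀ {a b}, a ≠ i → a ≠ j → b ≠ i → b ≠ j → a ≠ b →
      S.tw (F k) (S.tw (F a) x) ≠ S.tw (F k) (S.tw (F b) x) := fun h1 h2 h3 h4 h5 e => s1 h1 h2 h3 h4 h5 (S.tw_inj _ e)
  have ki : k ≠ i := Ne.symm hik
  have li : l ≠ i := Ne.symm hil
  have mi : m ≠ i := Ne.symm him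
  have ni : n ≠ i := Ne.symm hin
  have kj : k ≠ j := Ne.symm hjk
  have lj : l ≠ j := Ne.symm hjl
  have mj : m ≠ j := Ne.symm hjm
  have nj : n ≠ j := Ne.symm hjn
  have hnd : L.Nodup := by
    simp only [hL, List.nodup_cons, List.mem_cons, List.not_mem_nil, or_false, not_or, List.nodup_nil, and_true,
      not_false_eq_true]
    exact ⟨⟨ne0 ki kj, ne0 li lj, ne0 mi mj, ne0 ni nj, ne2 li lj hkl, ne2 mi mj hkm, ne2 ni nj hkn⟩,
      ⟨s1 ki kj li lj hkl, s1 ki kj mi mj hkm, s1 ki kj ni nj hkn, mix ki kj li lj hkl, mix ki kj mi mj hkm,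
        mix ki kj ni nj hkn⟩,
      ⟨s1 li lj mi mj hlm, s1 li lj ni nj hln, mix li lj li lj hkl, mix li lj mi mj hkm, mix li lj ni nj hkn⟩,
      ⟨s1 mi mj ni nj hmn, mix mi mj li lj hkl, mix mi mj mi mj hkm, mix mi mj ni nj hkn⟩,
      ⟨mix ni nj li lj hkl, mix ni nj mi mj hkm, mix ni nj ni nj hkn⟩,
      ⟨dd li lj mi mj hlm, dd li lj ni nj hln⟩, dd mi mj ni nj hmn⟩
  have hr : {u | u ∈ L} = S.P F i j := Set.eq_of_subset_of_ncard_le hmem (by
    rw [show (S.P F i j).ncard = 8 from S.eight F hF i j hij, ← List.coe_toFinset, Set.ncard_coe_finset,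
      List.toFinset_card_of_nodup hnd, hL]
    rfl)
  have := hr.symm.subset hy
  simpa [hL] using this

/-- Complementary pairs of transpositions agree. -/
theorem tw_two_eq (hx : x ∈ S.P F i j) {k l m n : Fin 6} (h : Four i j k l m n) :
    S.tw (F m) (S.tw (F n) x) = S.tw (F k) (S.tw (F l) x) := by
  have hc := S.cases_P hF hx h (S.mem_tw hF (S.mem_tw hF hx n) m)
  simp only [Four, List.nodup_cons, List.mem_cons, List.not_mem_nil, or_false, not_or] at h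
  have ha : S.adj x (S.tw (F m) (S.tw (F n) x)) :=
    S.adj_tw_two hF hx (by omega) (by omega) (by omega) (by omega) (by omega)
  rcases hc with e | e | e | e | e | e | e | e
  · exact absurd e.symm (S.ne_of_adj ha)
  iterate 4 exact absurd (e ▸ ha) (S.not_adj_tw hF hx (by omega) (by omega))
  · exact e
  · exfalso
    rw [S.tw_frame_comm hF k m] at e
    exact (by omega : n ≠ k) (S.tw_single_inj hF hx (by omega) (by omega) (by omega) (by omega) (S.tw_inj _ e))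
  · exfalso
    rw [S.tw_frame_comm hF m n, S.tw_frame_comm hF k n] at e
    exact (by omega : m ≠ k) (S.tw_single_inj hF hx (by omega) (by omega) (by omega) (by omega) (S.tw_inj _ e))

theorem same_adj_iff (hx : x ∈ S.P F i j) {k l m n : Fin 6} (h : Four i j k l m n) {y : Ω} (hy : y ∈ S.P F i j) :
    S.adj x y ↔ y = S.tw (F k) (S.tw (F l) x) ∨ y = S.tw (F k) (S.tw (F m) x) ∨ y = S.tw (F k) (S.tw (F n) x) := by
  have hc := S.cases_P hF hx h hy
  simp only [Four, List.nodup_cons, List.mem_cons, List.not_mem_nil, or_false, not_or] at h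
  constructor
  · intro ha
    rcases hc with e | e | e | e | e | e | e | e
    · exact absurd e.symm (S.ne_of_adj ha)
    iterate 4 exact absurd (e ▸ ha) (S.not_adj_tw hF hx (by omega) (by omega))
    exacts [Or.inl e, Or.inr (Or.inl e), Or.inr (Or.inr e)]
  · rintro (rfl | rfl | rfl) <;> exact S.adj_tw_two hF hx (by omega) (by omega) (by omega) (by omega) (by omega)

end Space

end Cfsg.Lib.Fischer.Frame126
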