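import Cfsg.Agent.Lib.Fischer.Frame126.Triangle

/-!
# Base points for the fifteen pairs of a frame

Each pair gets a point such that the points of pairs sharing a member are adjacent; those of disjoint pairs are not.
-/

set_option autoImplicit false

namespace Cfsg.Lib.Fischer.Frame126

universe u

theorem exists_three' (i j k : Fin 6) (h : i ≠ j ∧ i ≠ k ∧ j ≠ k) : ∃ l m n, Four i j k l m n :=
  exists_three i j k h.1 h.2.1 h.2.2

/-- A point for each pair, adjacent when the pairs share a member. -/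
structure Gauge {Ω : Type u} (S : Space Ω) where
  F : Fin 6 → Ω
  frame : S.IsFrame F
  B : Fin 6 → Fin 6 → Ω
  mem : ∀ i j, i ≠ j → B i j ∈ S.P F i j
  symm : ∀ i j, i ≠ j → B i j = B j i
  adj : ∀ i j k, i ≠ j → i ≠ k → j ≠ k → S.adj (B i j) (B i k)

namespace Space

variable {Ω : Type u} (S : Space Ω) {F : Fin 6 → Ω} (hF : S.IsFrame F)
include hF

theorem star_unique {G : Fin 6 → Ω} (hG : S.IsFrame G) {i t : Fin 6} (hit : i ≠ t) (hi : F i ∈ Set.range G)
    (htG : F t ∉ Set.range G) {g g' : Ω} (hg : g ∈ Set.range G) (hg' : g' ∈ Set.range G) (h : g ∈ S.P F i t)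
    (h' : g' ∈ S.P F i t) : g = g' := by
  by_contra hne
  obtain ⟨a, ha⟩ := hi
  obtain ⟨b, rfl⟩ := hg
  obtain ⟨c, rfl⟩ := hg'
  have hab : a ≠ b := fun e => S.not_range hF h ⟨i, by rw [← ha, e]⟩
  have hac : a ≠ c := fun e => S.not_range hF h' ⟨i, by rw [← ha, e]⟩
  have hbc : b ≠ c := fun e => hne (congrArg G e)
  obtain ⟨p, q, hpq, h4⟩ := S.two G hG (F t) htG
  have := (h4 a).1 (ha ▸ hF t i hit.symm)
  have := (h4 b).1 (S.adj_symm (S.adj_right hF h))
  have := (h4 c).1 (S.adj_symm (S.adj_right hF h'))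
  omega

omit hF in
theorem adj_of_range {G : Fin 6 → Ω} (hG : S.IsFrame G) {g g' : Ω} (hg : g ∈ Set.range G) (hg' : g' ∈ Set.range G)
    (h : g ≠ g') : S.adj g g' := by
  obtain ⟨a, rfl⟩ := hg
  obtain ⟨b, rfl⟩ := hg'
  exact hG a b fun e => h (congrArg G e)

/-- A frame of points, one in each pair through `i`, and `F i`. -/
def IsStar (F : Fin 6 → Ω) (i : Fin 6) (G : Fin 6 → Ω) : Prop :=
  S.IsFrame G ∧ F i ∈ Set.range G ∧ (∀ t, t ≠ i → ∃ g ∈ Set.range G, g ∈ S.P F i t) ∧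
    ∀ t, t ≠ i → F t ∉ Set.range G

theorem exists_isStar {i j k : Fin 6} (hij : i ≠ j) (hik : i ≠ k) (hjk : j ≠ k) {x y : Ω} (hx : x ∈ S.P F i j)
    (hy : y ∈ S.P F i k) (hxy : S.adj x y) : ∃ G, S.IsStar F i G ∧ x ∈ Set.range G ∧ y ∈ Set.range G := by
  obtain ⟨l, m, n, h⟩ := exists_three' i j k ⟨hij, hik, hjk⟩
  obtain ⟨G, hG, hxG, hyG, hiG, hmem⟩ := S.exists_star hF h hx hy hxy
  refine ⟨G, ⟨hG, hiG, hmem, fun t ht htG => ?_⟩, hxG, hyG⟩
  have h1 := (hx t).1 (S.adj_of_range hG hxG htG fun e => S.not_range hF hx ⟨t, e.symm⟩)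
  have h2 := (hy t).1 (S.adj_of_range hG hyG htG fun e => S.not_range hF hy ⟨t, e.symm⟩)
  omega

theorem star_adj {G : Fin 6 → Ω} {i : Fin 6} (hG : S.IsStar F i G) {s t : Fin 6} (hst : s ≠ t) (ht : t ≠ i) {g g' : Ω}
    (hg : g ∈ Set.range G) (hg' : g' ∈ Set.range G) (h : g ∈ S.P F i s) (h' : g' ∈ S.P F i t) : S.adj g g' :=
  S.adj_of_range hG.1 hg hg' (S.pair_ne hF (i := t) (j := i) (k := i) (l := s) (x := g') (y := g)
    (by rwa [S.P_symm]) h ht (Ne.symm hst)).symm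

theorem transfer {i j k : Fin 6} (hij : i ≠ j) (hik : i ≠ k) (hjk : j ≠ k) {x y w : Ω} (hx : x ∈ S.P F i j)
    (hy : y ∈ S.P F i k) (hxy : S.adj x y) (hw : w ∈ S.P F j k) : S.adj x w ↔ S.adj y w := by
  obtain ⟨l, m, n, h⟩ := exists_three' i j k ⟨hij, hik, hjk⟩
  exact (S.triangle hF h hx hy hxy).2.2 w hw

theorem exists_gauge : ∃ Γ : Gauge S, Γ.F = F := by
  classical
  haveI : Nonempty Ω := ⟨F 0⟩
  obtain ⟨x, hx⟩ := S.exists_mem hF (show (5 : Fin 6) ≠ 0 by decide)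
  obtain ⟨y, hy, hxy⟩ := S.share_exists hF (k := 1) (by decide) (by decide) (by decide) hx
  obtain ⟨G5, hG5, hxG5, -⟩ := S.exists_isStar hF (by decide) (by decide) (by decide) hx hy hxy
  choose! u huG hu using hG5.2.2.1
  have hu0 : u 0 ∈ S.P F 0 5 := by rw [S.P_symm]; exact hu 0 (by decide)
  obtain ⟨y', hy', hxy'⟩ := S.share_exists hF (k := 1) (by decide) (by decide) (by decide) hu0
  obtain ⟨G0, hG0, hu0G, -⟩ := S.exists_isStar hF (by decide) (by decide) (by decide) hu0 hy' hxy'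
  choose! b hbG hb using hG0.2.2.1
  have b5 : b 5 = u 0 := S.star_unique hF hG0.1 (by decide) hG0.2.1 (hG0.2.2.2 5 (by decide)) (hbG 5 (by decide)) hu0G (hb 5 (by decide)) hu0
  have hbu : ∀ m, m ≠ 0 → m ≠ 5 → S.adj (b m) (u m) := by
    intro m h0 h5
    have hum : u m ∈ S.P F m 5 := by rw [S.P_symm]; exact hu m h5
    refine (S.transfer hF h0.symm (by decide) h5 (hb m h0) hu0 ?_ hum).2 ?_
    · rw [← b5]
      exact S.star_adj hF hG0 h5 (by decide) (hbG m h0) (hbG 5 (by decide)) (hb m h0) (hb 5 (by decide))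
    · exact S.star_adj hF hG5 h0.symm h5 (huG 0 (by decide)) (huG m h5) (hu 0 (by decide)) (hu m h5)
  have hstar : ∀ i, ∃ G, S.IsStar F i G ∧ (i ≠ 0 → i ≠ 5 → b i ∈ Set.range G ∧ u i ∈ Set.range G) ∧
      (i = 0 → G = G0) ∧ (i = 5 → G = G5) := by
    intro i
    by_cases h0 : i = 0
    · subst h0
      exact ⟨G0, hG0, fun h => absurd rfl h, fun _ => rfl, fun h => absurd h (by decide)⟩
    by_cases h5 : i = 5
    · subst h5
      exact ⟨G5, hG5, fun _ h => absurd rfl h, fun h => absurd h (by decide), fun _ => rfl⟩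
    obtain ⟨G, hG, h1, h2⟩ := S.exists_isStar hF h0 h5 (by decide) (by rw [S.P_symm]; exact hb i h0)
      (by rw [S.P_symm]; exact hu i h5) (hbu i h0 h5)
    exact ⟨G, hG, fun _ _ => ⟨h1, h2⟩, fun h => absurd h h0, fun h => absurd h h5⟩
  choose Gs hGs hGmem hG0e hG5e using hstar
  have hmem : ∀ i j, j ≠ i → ∃ g, g ∈ Set.range (Gs i) ∧ g ∈ S.P F i j := fun i j h => by
    obtain ⟨g, h1, h2⟩ := (hGs i).2.2.1 j h
    exact ⟨g, h1, h2⟩
  choose! B hBG hB using hmem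
  have huniq : ∀ i j, j ≠ i → ∀ g ∈ Set.range (Gs i), g ∈ S.P F i j → B i j = g := fun i j h g hg hg' =>
    S.star_unique hF (hGs i).1 h.symm (hGs i).2.1 ((hGs i).2.2.2 j h) (hBG i j h) hg (hB i j h) hg'
  have e0 : ∀ m, m ≠ 0 → B 0 m = b m := fun m h => huniq 0 m h _ (by rw [hG0e 0 rfl]; exact hbG m h) (hb m h)
  have e5 : ∀ m, m ≠ 5 → B 5 m = u m := fun m h => huniq 5 m h _ (by rw [hG5e 5 rfl]; exact huG m h) (hu m h)
  have ei0 : ∀ i, i ≠ 0 → i ≠ 5 → B i 0 = b i := fun i h h' =>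
    huniq i 0 h.symm _ (hGmem i h h').1 (by rw [S.P_symm]; exact hb i h)
  have ei5 : ∀ i, i ≠ 0 → i ≠ 5 → B i 5 = u i := fun i h h' =>
    huniq i 5 h'.symm _ (hGmem i h h').2 (by rw [S.P_symm]; exact hu i h')
  have hadj : ∀ i j k, i ≠ j → i ≠ k → j ≠ k → S.adj (B i j) (B i k) := fun i j k hij hik hjk =>
    S.star_adj hF (hGs i) hjk hik.symm (hBG i j hij.symm) (hBG i k hik.symm) (hB i j hij.symm) (hB i k hik.symm)
  have hsym : ∀ i j, i ≠ 0 → i ≠ 5 → j ≠ 0 → j ≠ 5 → i ≠ j → B i j = B j i := by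
    intro i j i0 i5 j0 j5 hij
    have hjb : S.adj (b j) (B i j) := by
      refine (S.transfer hF i0.symm j0.symm hij (hb i i0) (hb j j0) ?_ (hB i j hij.symm)).1 ?_
      · have := hadj 0 i j i0.symm j0.symm hij; rwa [e0 i i0, e0 j j0] at this
      · have := hadj i 0 j i0 hij j0.symm; rwa [ei0 i i0 i5] at this
    have hju : S.adj (u j) (B i j) := by
      refine (S.transfer hF i5.symm j5.symm hij (hu i i5) (hu j j5) ?_ (hB i j hij.symm)).1 ?_
      · have := hadj 5 i j i5.symm j5.symm hij; rwa [e5 i i5, e5 j j5] at this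
      · have := hadj i 5 j i5 hij j5.symm; rwa [ei5 i i0 i5] at this
    have h0 : S.adj (b j) (B j i) := by have := hadj j 0 i j0 hij.symm i0.symm; rwa [ei0 j j0 j5] at this
    have h5 : S.adj (u j) (B j i) := by have := hadj j 5 i j5 hij.symm i5.symm; rwa [ei5 j j0 j5] at this
    obtain ⟨l, m, n, hf0⟩ := exists_three' j 0 i ⟨j0, hij.symm, i0.symm⟩
    obtain ⟨l', m', n', hf5⟩ := exists_three' j 5 i ⟨j5, hij.symm, i5.symm⟩
    have hij' : B i j ∈ S.P F j i := by rw [S.P_symm]; exact hB i j hij.symm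
    have hji := hB j i hij
    rcases (S.share_iff hF hf0 (by rw [S.P_symm]; exact hb j j0) hji h0 hij').1 hjb with e | e
    · exact e
    rcases (S.share_iff hF hf5 (by rw [S.P_symm]; exact hu j j5) hji h5 hij').1 hju with e' | e'
    · exact e'
    · exact absurd (S.tw_single_inj hF hji j0.symm i0.symm j5.symm i5.symm (e.symm.trans e')) (by decide)
  refine ⟨⟨F, hF, B, fun i j h => hB i j h.symm, fun i j h => ?_, hadj⟩, rfl⟩
  by_cases i0 : i = 0
  · subst i0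
    by_cases j5 : j = 5
    · subst j5; rw [e0 5 (by decide), e5 0 (by decide), b5]
    · rw [e0 j h.symm, ei0 j h.symm j5]
  by_cases j0 : j = 0
  · subst j0
    by_cases i5 : i = 5
    · subst i5; rw [e5 0 (by decide), e0 5 (by decide), b5]
    · rw [ei0 i h i5, e0 i h]
  by_cases i5 : i = 5
  · subst i5; rw [e5 j h.symm, ei5 j j0 h.symm]
  by_cases j5 : j = 5
  · subst j5; rw [ei5 i i0 h, e5 i h]
  exact hsym i j i0 i5 j0 j5 h

end Space

end Cfsg.Lib.Fischer.Frame126
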