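import Cfsg.Agent.Lib.Fischer.Frame126.Gauge
import Mathlib.Data.ZMod.Basic
import Mathlib.Data.Fintype.Pi
import Mathlib.Tactic.Ring

/-!
# The points as the vectors of norm one in six dimensions over three elements
-/

set_option autoImplicit false
set_option maxRecDepth 10000

namespace Cfsg.Lib.Fischer.Frame126

universe u

/-- Vectors in six dimensions over three elements. -/
abbrev Vec : Type := Fin 6 → ZMod 3

/-- The scalar product. -/
def dot (v w : Vec) : ZMod 3 := v 0 * w 0 + v 1 * w 1 + v 2 * w 2 + v 3 * w 3 + v 4 * w 4 + v 5 * w 5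

/-- The sign change of one coordinate. -/
def fv (k : Fin 6) (v : Vec) : Vec := fun t => if t = k then -v t else v t

/-- The sign changes of a list of coordinates. -/
def fvs (L : List (Fin 6)) (v : Vec) : Vec := L.foldr fv v

/-- The nonzero coordinates. -/
def supp (v : Vec) : List (Fin 6) := (List.finRange 6).filter fun t => decide (v t ≠ 0)

/-- The negative coordinates. -/
def negs (v : Vec) : List (Fin 6) := (List.finRange 6).filter fun t => decide (v t = 2)

/-- The first two zero coordinates. -/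
def zeros (v : Vec) : Fin 6 × Fin 6 :=
  match (List.finRange 6).filter (fun t => decide (v t = 0)) with
  | a :: b :: _ => (a, b)
  | _ => (0, 1)

/-- The vector with two zeros and ones elsewhere. -/
def ones (i j : Fin 6) : Vec := fun t => if t = i ∨ t = j then 0 else 1

/-- A coordinate vector. -/
def unit (i : Fin 6) : Vec := fun t => if t = i then 1 else 0

theorem fv_fv (k : Fin 6) (v : Vec) : fv k (fv k v) = v := by
  funext t; simp only [fv]; split <;> simp

theorem fv_comm (k l : Fin 6) (v : Vec) : fv k (fv l v) = fv l (fv k v) := by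
  funext t; simp only [fv]; split <;> split <;> simp_all

theorem dot_fv (k : Fin 6) (v w : Vec) : dot (fv k v) (fv k w) = dot v w := by
  fin_cases k <;> simp [dot, fv]

theorem dot_comm (v w : Vec) : dot v w = dot w v := by
  simp only [dot]; ring

theorem norm_shape : ∀ v : Vec, dot v v = 1 →
    ((∃ t, supp v = [t]) ∧ ∃ t, v = unit t ∨ v = -unit t) ∨
    ((supp v).length = 4 ∧ (zeros v).1 ≠ (zeros v).2 ∧ ∃ s t, v = fv s (fv t (ones (zeros v).1 (zeros v).2)) ∨
      v = -fv s (fv t (ones (zeros v).1 (zeros v).2))) := by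
  decide +kernel

theorem normalize : ∀ v : Vec, dot v v = 1 → (∃ t, fvs (negs v) v = unit t) ∨
    ∃ i j, i ≠ j ∧ fvs (negs v) v = ones i j := by decide +kernel

theorem ones_facts : ∀ i j : Fin 6, i ≠ j → dot (ones i j) (ones i j) = 1 ∧ (supp (ones i j)).length = 4 ∧
    negs (ones i j) = [] ∧ (zeros (ones i j) = (i, j) ∨ zeros (ones i j) = (j, i)) := by decide +kernel

theorem unit_facts : ∀ i : Fin 6, dot (unit i) (unit i) = 1 ∧ supp (unit i) = [i] := by decide +kernel

theorem fv_facts : ∀ (k : Fin 6) (v : Vec), supp (fv k v) = supp v ∧ zeros (fv k v) = zeros v ∧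
    ((negs (fv k v)).Perm (k :: negs v) ∨ (negs v).Perm (k :: negs (fv k v)) ∨ v k = 0 ∧ fv k v = v) := by
  decide +kernel

theorem zero_facts : ∀ (v : Vec) (k : Fin 6), (supp v).length = 4 → (v k = 0 ↔ k = (zeros v).1 ∨ k = (zeros v).2) := by
  decide +kernel

theorem supp_mem : ∀ (v : Vec) (k : Fin 6), k ∈ supp v ↔ v k ≠ 0 := fun v k => by simp [supp]

theorem neg_flips : ∀ v : Vec, fvs (List.finRange 6) v = -v := by decide +kernel

theorem dot_unit (i : Fin 6) (w : Vec) : dot (unit i) w = w i := by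
  fin_cases i <;> simp [dot, unit]

namespace Gauge

variable {Ω : Type u} {S : Space Ω} (Γ : Gauge S)

/-- The transposition of a frame member. -/
def τ (k : Fin 6) (x : Ω) : Ω := S.tw (Γ.F k) x

/-- Successive transpositions. -/
def flips (L : List (Fin 6)) (x : Ω) : Ω := L.foldr Γ.τ x

/-- The point of a vector. -/
def psi (v : Vec) : Ω :=
  match supp v with
  | [t] => Γ.F t
  | _ => Γ.flips (negs v) (Γ.B (zeros v).1 (zeros v).2)

theorem τ_τ (k : Fin 6) (x : Ω) : Γ.τ k (Γ.τ k x) = x := S.tw_tw _ x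

theorem τ_comm (k l : Fin 6) (x : Ω) : Γ.τ k (Γ.τ l x) = Γ.τ l (Γ.τ k x) := S.tw_frame_comm Γ.frame k l x

theorem flips_perm {L L' : List (Fin 6)} (h : L.Perm L') (x : Ω) : Γ.flips L x = Γ.flips L' x := by
  haveI : LeftCommutative Γ.τ := ⟨Γ.τ_comm⟩
  exact h.foldr_eq x

theorem flips_mem {i j : Fin 6} {x : Ω} (hx : x ∈ S.P Γ.F i j) : ∀ L, Γ.flips L x ∈ S.P Γ.F i j
  | [] => hx
  | k :: L => S.mem_tw Γ.frame (flips_mem hx L) k

theorem psi_single {v : Vec} {t : Fin 6} (h : supp v = [t]) : Γ.psi v = Γ.F t := by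
  simp [psi, h]

theorem psi_four {v : Vec} (h : (supp v).length = 4) :
    Γ.psi v = Γ.flips (negs v) (Γ.B (zeros v).1 (zeros v).2) := by
  rw [psi]
  split
  · next t ht => rw [ht] at h; simp at h
  · rfl

theorem psi_mem {v : Vec} (hv : dot v v = 1) (h : (supp v).length = 4) :
    Γ.psi v ∈ S.P Γ.F (zeros v).1 (zeros v).2 := by
  rcases norm_shape v hv with ⟨⟨t, ht⟩, -⟩ | ⟨-, hz, -⟩
  · rw [ht] at h; simp at h
  rw [Γ.psi_four h]
  exact Γ.flips_mem (Γ.mem _ _ hz) _

theorem psi_fv {v : Vec} (hv : dot v v = 1) (k : Fin 6) : Γ.psi (fv k v) = Γ.τ k (Γ.psi v) := by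
  obtain ⟨f1, f2, f3⟩ := fv_facts k v
  rcases norm_shape v hv with ⟨⟨t, ht⟩, -⟩ | ⟨h4, hz, -⟩
  · rw [Γ.psi_single ht, Γ.psi_single (f1.trans ht)]
    rcases eq_or_ne k t with rfl | h
    · exact (S.tw_self _).symm
    · exact (S.tw_fix (Γ.frame k t h)).symm
  · rw [Γ.psi_four (v := fv k v) (by rw [f1]; exact h4), f2, Γ.psi_four h4]
    rcases f3 with h | h | ⟨h0, he⟩
    · exact Γ.flips_perm h _
    · rw [Γ.flips_perm h]
      exact (Γ.τ_τ k _).symm
    · rw [he]
      exact (S.tw_eq_self Γ.frame (Γ.flips_mem (Γ.mem _ _ hz) _) ((zero_facts v k h4).1 h0)).symm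

theorem norm_fvs (v : Vec) : ∀ L, dot (fvs L v) (fvs L v) = dot v v
  | [] => rfl
  | k :: L => (dot_fv k _ _).trans (norm_fvs v L)

theorem psi_fvs {v : Vec} (hv : dot v v = 1) : ∀ L, Γ.psi (fvs L v) = Γ.flips L (Γ.psi v)
  | [] => rfl
  | k :: L => by
    show Γ.psi (fv k (fvs L v)) = Γ.τ k (Γ.flips L (Γ.psi v))
    rw [Γ.psi_fv (by rw [norm_fvs, hv]), psi_fvs hv L]

theorem flips_all (x : Ω) : Γ.flips (List.finRange 6) x = x := by
  by_cases hx : x ∈ Set.range Γ.F
  · obtain ⟨t, rfl⟩ := hx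
    have : ∀ L, Γ.flips L (Γ.F t) = Γ.F t := by
      intro L
      induction L with
      | nil => rfl
      | cons k L ih =>
        show Γ.τ k (Γ.flips L (Γ.F t)) = _
        rw [ih]
        rcases eq_or_ne k t with rfl | h
        · exact S.tw_self _
        · exact S.tw_fix (Γ.frame k t h)
    exact this _
  obtain ⟨i, j, hij, h⟩ := S.two Γ.F Γ.frame x hx
  obtain ⟨k, l, m, n, hf⟩ := Space.exists_four i j hij
  have hp : (List.finRange 6).Perm [i, j, k, l, m, n] :=
    (List.perm_ext_iff_of_nodup (List.nodup_finRange 6) hf).2 fun t => by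
      simpa using Space.four_cases hf t
  rw [Γ.flips_perm hp]
  have hxP : x ∈ S.P Γ.F i j := h
  show Γ.τ i (Γ.τ j (Γ.τ k (Γ.τ l (Γ.τ m (Γ.τ n x))))) = x
  simp only [τ]
  rw [S.tw_two_eq Γ.frame hxP hf, S.tw_frame_comm Γ.frame l k, S.tw_tw, S.tw_tw,
    S.tw_eq_self Γ.frame hxP (Or.inr rfl), S.tw_eq_self Γ.frame hxP (Or.inl rfl)]

theorem psi_neg {v : Vec} (hv : dot v v = 1) : Γ.psi (-v) = Γ.psi v := by
  rw [← neg_flips v, Γ.psi_fvs hv, Γ.flips_all]

theorem psi_ones {i j : Fin 6} (h : i ≠ j) : Γ.psi (ones i j) = Γ.B i j := by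
  obtain ⟨-, h4, hn, hz | hz⟩ := ones_facts i j h <;> rw [Γ.psi_four h4, hn, hz]
  · rfl
  · exact (Γ.symm i j h).symm

theorem psi_unit (i : Fin 6) : Γ.psi (unit i) = Γ.F i := Γ.psi_single (unit_facts i).2

end Gauge

end Cfsg.Lib.Fischer.Frame126
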