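import Cfsg.Prelude.Def_Classical
import Cfsg.Agent.Lib.Fischer.Frame126.Label

/-!
# The sum of six squares as a minus-type form over the field of three elements
-/

set_option autoImplicit false

namespace Cfsg.Lib.Fischer.Frame126

open scoped Matrix

/-- The coordinates of the standard minus-type form. -/
abbrev W6 : Type := (Fin 2 ⊕ Fin 2) ⊕ Fin 2 → ZMod 3

/-- The standard minus-type form of dimension six. -/
abbrev Q6 : W6 → ZMod 3 := Cfsg.quadFormMinus 2 (ZMod 3) 0 1

/-- From standard coordinates to an orthonormal basis. -/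
def toVec (x : W6) : Vec :=
  ![x (.inl (.inl 0)) + x (.inl (.inr 0)) + x (.inl (.inl 1)), x (.inl (.inl 0)) + x (.inl (.inr 0)) + x (.inl (.inr 1)),
    x (.inl (.inl 0)) + 2 * x (.inl (.inl 1)) + 2 * x (.inl (.inr 1)),
    x (.inl (.inr 0)) + 2 * x (.inl (.inl 1)) + 2 * x (.inl (.inr 1)), x (.inr 0), x (.inr 1)]

/-- The inverse coordinates. -/
def toQ (v : Vec) : W6
  | .inl (.inl 0) => v 2 + (2 * v 0 + 2 * v 1 + 2 * v 2 + 2 * v 3)
  | .inl (.inr 0) => v 3 + (2 * v 0 + 2 * v 1 + 2 * v 2 + 2 * v 3)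
  | .inl (.inl 1) => v 0 - (v 2 + (2 * v 0 + 2 * v 1 + 2 * v 2 + 2 * v 3)) -
      (v 3 + (2 * v 0 + 2 * v 1 + 2 * v 2 + 2 * v 3))
  | .inl (.inr 1) => v 1 - (v 2 + (2 * v 0 + 2 * v 1 + 2 * v 2 + 2 * v 3)) -
      (v 3 + (2 * v 0 + 2 * v 1 + 2 * v 2 + 2 * v 3))
  | .inr 0 => v 4
  | .inr 1 => v 5

theorem toVec_toQ : ∀ v : Vec, toVec (toQ v) = v ∧ Q6 (toQ v) = dot v v := by
  decide +kernel

theorem toQ_toVec : ∀ x : W6, toQ (toVec x) = x := by
  decide +kernel

theorem toVec_add (x y : W6) : toVec (x + y) = toVec x + toVec y := by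
  funext t
  fin_cases t <;> simp [toVec] <;> ring

theorem toVec_neg (x : W6) : toVec (-x) = -toVec x := by
  funext t
  fin_cases t <;> simp [toVec] <;> ring

theorem toQ_add (v w : Vec) : toQ (v + w) = toQ v + toQ w := by
  conv_lhs => rw [← (toVec_toQ v).1, ← (toVec_toQ w).1, ← toVec_add, toQ_toVec]

theorem toQ_neg (v : Vec) : toQ (-v) = -toQ v := by
  conv_lhs => rw [← (toVec_toQ v).1, ← toVec_neg, toQ_toVec]

theorem Q6_eq (x : W6) : Q6 x = dot (toVec x) (toVec x) := by
  conv_lhs => rw [← toQ_toVec x, (toVec_toQ _).2]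

/-- A matrix acting on the orthonormal coordinates. -/
def act (g : Matrix ((Fin 2 ⊕ Fin 2) ⊕ Fin 2) ((Fin 2 ⊕ Fin 2) ⊕ Fin 2) (ZMod 3)) (v : Vec) : Vec :=
  toVec (g *ᵥ toQ v)

theorem act_one (v : Vec) : act 1 v = v := by
  rw [act, Matrix.one_mulVec, (toVec_toQ v).1]

theorem act_neg_one (v : Vec) : act (-1) v = -v := by
  rw [act, Matrix.neg_mulVec, Matrix.one_mulVec, toVec_neg, (toVec_toQ v).1]

variable (g h : Matrix ((Fin 2 ⊕ Fin 2) ⊕ Fin 2) ((Fin 2 ⊕ Fin 2) ⊕ Fin 2) (ZMod 3))

theorem act_mul (v : Vec) : act (g * h) v = act g (act h v) := by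
  rw [act, act, act, toQ_toVec, Matrix.mulVec_mulVec]

theorem act_add (v w : Vec) : act g (v + w) = act g v + act g w := by
  rw [act, toQ_add, Matrix.mulVec_add, toVec_add]; rfl

theorem act_neg (v : Vec) : act g (-v) = -act g v := by
  rw [act, toQ_neg, Matrix.mulVec_neg, toVec_neg]; rfl

theorem eq_of_act (e : ∀ v, act g v = act h v) : g = h := by
  refine Matrix.ext_iff_mulVec.2 fun x => ?_
  have := congrArg toQ (e (toVec x))
  simpa [act, toQ_toVec] using this

theorem signs_equal : ∀ s : Vec, (∀ t, s t = 1 ∨ s t = 2) →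
    (∀ p ∈ [((4 : Fin 6), (5 : Fin 6)), (0, 1)], (fun t => s t * ones p.1 p.2 t) = ones p.1 p.2 ∨
      (fun t => s t * ones p.1 p.2 t) = -ones p.1 p.2) → s = 1 ∨ s = -1 := by
  decide +kernel

/-- A map fixing each line of the orthonormal basis and two further lines is a sign. -/
theorem eq_pm_of_lines (hu : ∀ t, act g (unit t) = unit t ∨ act g (unit t) = -unit t)
    (ho : ∀ a b, a ≠ b → act g (ones a b) = ones a b ∨ act g (ones a b) = -ones a b) : g = 1 ∨ g = -1 := by
  classical
  obtain ⟨s, hs⟩ : ∃ s : Vec, ∀ t, (s t = 1 ∨ s t = 2) ∧ act g (unit t) = fun u => s t * unit t u := by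
    refine ⟨fun t => if act g (unit t) = unit t then 1 else 2, fun t => ?_⟩
    rcases eq_or_ne (act g (unit t)) (unit t) with h' | h'
    · simp only [if_pos h', true_or, true_and, one_mul]; exact h'
    · simp only [if_neg h', or_true, true_and]
      rw [(hu t).resolve_left h']
      funext u
      show -unit t u = 2 * unit t u
      linear_combination (by decide : ∀ z : ZMod 3, -z - 2 * z = 0) (unit t u)
  have diag : ∀ v, act g v = fun u => s u * v u := by
    have single : ∀ (c : ZMod 3) (t : Fin 6), act g (fun u => c * unit t u) = fun u => s u * (c * unit t u) := by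
      intro c t
      have e : ∀ u, s t * unit t u = s u * unit t u := fun u => by
        by_cases h' : u = t
        · rw [h']
        · simp [unit, h']
      have h1 : act g (unit t) = fun u => s u * unit t u := (hs t).2.trans (funext e)
      rcases (by decide : ∀ c : ZMod 3, c = 0 ∨ c = 1 ∨ c = -1) c with rfl | rfl | rfl
      · funext u
        have := congrFun (act_add g 0 0) u
        simpa [show (fun v : Fin 6 => (0 : ZMod 3)) = (0 : Vec) from rfl] using this
      · simpa using h1
      · rw [show (fun u => (-1 : ZMod 3) * unit t u) = -unit t from funext fun u => by simp, act_neg, h1]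
        funext u
        simp
    intro v
    have hv : v = (fun u => v 0 * unit 0 u) + (fun u => v 1 * unit 1 u) + (fun u => v 2 * unit 2 u) +
        (fun u => v 3 * unit 3 u) + (fun u => v 4 * unit 4 u) + fun u => v 5 * unit 5 u := by
      funext u
      fin_cases u <;> simp [unit]
    conv_lhs => rw [hv]
    simp only [act_add, single]
    funext u
    fin_cases u <;> simp [unit]
  rcases signs_equal s (fun t => (hs t).1) (fun p hp => by
    have hp' : p.1 ≠ p.2 := by revert p; decide
    rw [← diag]; exact ho p.1 p.2 hp') with rfl | rfl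
  · exact Or.inl (eq_of_act g 1 fun v => by rw [diag, act_one]; funext u; simp)
  · exact Or.inr (eq_of_act g (-1) fun v => by rw [diag, act_neg_one]; funext u; simp)

end Cfsg.Lib.Fischer.Frame126
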