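import Cfsg.Agent.Lib.Fischer.Frame126.Aut
import Cfsg.Agent.Lib.Fischer.Frame126.Vectors
import Cfsg.Agent.Lib.Linear.NondegFix.EvenCount
import Cfsg.Agent.Lib.Linear.OrthSmallIso
import Cfsg.Agent.Lib.Linear.OrthSpinor
import Cfsg.Agent.Lib.Linear.PSUFourSeven
import Cfsg.Agent.S0303

/-!
# The automorphism group of a space of 126 points

It is the orthogonal group of six squares over three elements modulo signs; its derived subgroup has index four and
is the projective unitary group of dimension four over nine elements.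
-/

set_option autoImplicit false

namespace Cfsg.Lib.Fischer.Frame126

universe u

open Cfsg Cfsg.Lib.Linear
open scoped Matrix

/-- The orthogonal group of the form. -/
abbrev O6 : Subgroup (GL ((Fin 2 ⊕ Fin 2) ⊕ Fin 2) (ZMod 3)) := Cfsg.isometryGroup (ZMod 3) Q6

theorem aniso : ∀ z₁ z₂ : ZMod 3, z₁ ^ 2 + 0 * z₁ * z₂ + 1 * z₂ ^ 2 = 0 → z₁ = 0 ∧ z₂ = 0 := by decide

theorem card_O6 : Nat.card O6 = 26127360 := by
  rw [NondegFix.card_iso_minus 2 aniso, ZMod.card]
  decide

theorem dot_act (g : O6) (v w : Vec) : dot (act g.1.1 v) (act g.1.1 w) = dot v w := by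
  have sq : ∀ u, dot (act g.1.1 u) (act g.1.1 u) = dot u u := fun u => by
    rw [act, ← Q6_eq, Orth.mem_iso.1 g.2, (toVec_toQ u).2]
  have key : ∀ a b : Vec, dot a b = 2 * (dot (a + b) (a + b) - dot a a - dot b b) := fun a b => by
    simp only [dot, Pi.add_apply]
    have h3 : (3 : ZMod 3) = 0 := rfl
    linear_combination (-(a 0 * b 0 + a 1 * b 1 + a 2 * b 2 + a 3 * b 3 + a 4 * b 4 + a 5 * b 5)) * h3
  rw [key, ← act_add, sq, sq, sq, ← key]

namespace Gauge

variable {Ω : Type u} {S : Space Ω} (Γ : Gauge S)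

/-- A vector of a point. -/
noncomputable def rep (x : Ω) : Vec := Classical.choose (Γ.psi_surj x)

theorem rep_spec (x : Ω) : dot (Γ.rep x) (Γ.rep x) = 1 ∧ Γ.psi (Γ.rep x) = x := Classical.choose_spec (Γ.psi_surj x)

theorem psi_act (g : O6) {v : Vec} (hv : dot v v = 1) :
    Γ.psi (act g.1.1 (Γ.rep (Γ.psi v))) = Γ.psi (act g.1.1 v) := by
  rcases Γ.psi_eq hv (Γ.rep_spec _).1 (Γ.rep_spec _).2.symm with e | e <;> rw [e]
  rw [act_neg, Γ.psi_neg (by rw [dot_act, hv])]

theorem exists_action : ∃ θ : O6 →* Equiv.Perm Ω,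
    ∀ (g : O6) (v : Vec), dot v v = 1 → θ g (Γ.psi v) = Γ.psi (act g.1.1 v) := by
  have hinv : ∀ (g : O6) (x : Ω), Γ.psi (act (g⁻¹).1.1 (Γ.rep (Γ.psi (act g.1.1 (Γ.rep x))))) = x := fun g x => by
    rw [Γ.psi_act _ (by rw [dot_act, (Γ.rep_spec x).1]), ← act_mul,
      show (g⁻¹).1.1 * g.1.1 = ((g⁻¹ * g : O6)).1.1 from rfl, inv_mul_cancel]
    exact (congrArg Γ.psi (act_one _)).trans (Γ.rep_spec x).2
  let p : O6 → Equiv.Perm Ω := fun g =>
    ⟨fun x => Γ.psi (act g.1.1 (Γ.rep x)), fun x => Γ.psi (act (g⁻¹).1.1 (Γ.rep x)), hinv g,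
      fun x => by simpa using hinv g⁻¹ x⟩
  refine ⟨MonoidHom.mk' p fun g h => Equiv.ext fun x => ?_, fun g v hv => Γ.psi_act g hv⟩
  show Γ.psi (act (g * h).1.1 (Γ.rep x)) = Γ.psi (act g.1.1 (Γ.rep (Γ.psi (act h.1.1 (Γ.rep x)))))
  rw [Γ.psi_act _ (by rw [dot_act, (Γ.rep_spec x).1]), ← act_mul]
  rfl

end Gauge

namespace Space

variable {Ω : Type u} (S : Space Ω)

/-- The automorphism group has order 13063680, and its derived subgroup is `PSU(4, 3)` of index four. -/
theorem aut_structure : Nat.card S.autGroup = 13063680 ∧ (commutator S.autGroup).index = 4 ∧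
    ∀ (K : Type) [Field K] [Fintype K], Fintype.card K = 9 → Nonempty (commutator S.autGroup ≃* Cfsg.PSU 4 K 3) := by
  classical
  haveI := S.finite
  obtain ⟨F, hF, -⟩ := S.extend ∅ (by simp)
  obtain ⟨Γ, -⟩ := S.exists_gauge hF
  obtain ⟨θ, hθ⟩ := Γ.exists_action
  have hmem : ∀ g, θ g ∈ S.autGroup := fun g x y => by
    obtain ⟨v, hv, rfl⟩ := Γ.psi_surj x
    obtain ⟨w, hw, rfl⟩ := Γ.psi_surj y
    rw [hθ g v hv, hθ g w hw, Γ.adj_psi (by rw [dot_act, hv]) (by rw [dot_act, hw]), Γ.adj_psi hv hw, dot_act]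
  let φ : O6 →* S.autGroup := θ.codRestrict _ hmem
  have hker : ∀ g : O6, g ∈ φ.ker → g.1.1 = 1 ∨ g.1.1 = -1 := fun g hg => by
    have h1 : θ g = 1 := congrArg Subtype.val hg
    have hl : ∀ v, dot v v = 1 → act g.1.1 v = v ∨ act g.1.1 v = -v := fun v hv => by
      refine Γ.psi_eq hv (by rw [dot_act, hv]) ?_
      rw [← hθ g v hv, h1]; rfl
    exact eq_pm_of_lines _ (fun t => hl _ (unit_facts t).1) fun a b hab => hl _ (Gauge.norm_ones hab)
  obtain ⟨B, C⟩ := Orth.exists_space_minus (F := ZMod 3) 2 0 1 aniso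
  have h2 : (2 : ZMod 3) ≠ 0 := by decide
  obtain ⟨m, hmO, hm⟩ : ∃ m : O6, m ∈ Cfsg.Omega (ZMod 3) Q6 ∧ m.1.1 = -1 := by
    refine (Orth.neg_one_mem_omega_iff C h2 (by decide) (by simp) (fun i => toQ (unit i)) (by simp) (fun i => ?_)
      fun i j hij => ?_).2 ?_
    · show Q6 _ ≠ 0
      rw [(toVec_toQ _).2, (unit_facts i).1]; decide
    · rw [← C.polar]; revert i j; unfold QuadraticMap.polar; decide +kernel
    · show ∏ i, (if IsSquare (Q6 (toQ (unit i))) then (-1 : ℤˣ) else 1) = 1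
      simp only [(toVec_toQ _).2, (unit_facts _).1, if_pos IsSquare.one, Finset.prod_const, Finset.card_univ,
        Fintype.card_fin]
      rfl
  have hm1 : m ≠ 1 := fun e => by
    rw [e] at hm
    exact absurd (congrFun (congrFun hm (.inr 0)) (.inr 0)) (by decide)
  have hmk : m ∈ φ.ker := by
    refine Subtype.ext (Equiv.ext fun x => ?_)
    obtain ⟨v, hv, rfl⟩ := Γ.psi_surj x
    show θ m (Γ.psi v) = Γ.psi v
    rw [hθ m v hv, hm, act_neg_one, Γ.psi_neg hv]
  have hk : (φ.ker : Set O6) = {1, m} := by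
    ext g
    simp only [SetLike.mem_coe, Set.mem_insert_iff, Set.mem_singleton_iff]
    refine ⟨fun hg => ?_, ?_⟩
    · rcases hker g hg with e | e
      exacts [Or.inl (Subtype.ext (Units.ext e)), Or.inr (Subtype.ext (Units.ext (e.trans hm.symm)))]
    · rintro (rfl | rfl)
      exacts [one_mem _, hmk]
  have hk2 : Nat.card φ.ker = 2 := by
    rw [← SetLike.coe_sort_coe, hk, Nat.card_coe_set_eq, Set.ncard_pair (Ne.symm hm1)]
  have hfib : 2 * Nat.card φ.range = 26127360 := by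
    rw [← card_O6, ← φ.ker.card_mul_index, hk2, Subgroup.index_ker]
  have hle : Nat.card φ.range ≤ Nat.card S.autGroup := Subgroup.card_le_card_group _
  have hA : Nat.card S.autGroup = 13063680 := by
    have := S.card_autGroup_le
    omega
  have hs : Function.Surjective φ := MonoidHom.range_eq_top.1 (Subgroup.eq_top_of_le_card _ (by omega))
  have hmap : (Cfsg.Omega (ZMod 3) Q6).map φ = commutator S.autGroup := by
    rw [show Cfsg.Omega (ZMod 3) Q6 = commutator O6 from rfl, _root_.commutator_def, Subgroup.map_commutator,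
      Subgroup.map_top_of_surjective φ hs, ← _root_.commutator_def]
  have hkO : φ.ker ≤ Cfsg.Omega (ZMod 3) Q6 := fun g hg => by
    have : g ∈ (φ.ker : Set O6) := hg
    rw [hk] at this
    rcases this with rfl | rfl
    exacts [one_mem _, hmO]
  have hidx : (Cfsg.Omega (ZMod 3) Q6).index = 4 := ((SmallIso.omega_facts C (by simp) (Or.inl h2)).2.2 h2)
  refine ⟨hA, by rw [← hmap, Subgroup.index_map, sup_eq_left.2 hkO, hidx, MonoidHom.range_eq_top.2 hs,
    Subgroup.index_top, mul_one], fun K _ _ hK => ?_⟩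
  obtain ⟨e⟩ := Cfsg.Agent.S0303.result (F := ZMod 3) (K := K) (q := 3) (ZMod.card 3) hK 0 1 aniso
  let χ : ↥(Cfsg.Omega (ZMod 3) Q6) →* ↥S.autGroup := φ.comp (Cfsg.Omega (ZMod 3) Q6).subtype
  have hrange : χ.range = commutator S.autGroup := by
    rw [MonoidHom.range_comp, Subgroup.range_subtype, hmap]
  have hχ : χ.ker = φ.ker.subgroupOf (Cfsg.Omega (ZMod 3) Q6) := rfl
  have hcen : χ.ker ≤ Subgroup.center _ := fun g hg => Subgroup.mem_center_iff.2 fun y => Subtype.ext
    (Subtype.ext (Units.ext (by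
      rcases hker g.1 hg with h | h <;> simp [h])))
  have hcard : Nat.card ↥(Subgroup.center ↥(Cfsg.Omega (ZMod 3) Q6)) ≤ Nat.card χ.ker := by
    rw [hχ, Nat.card_congr (Subgroup.subgroupOfEquivOfLe hkO).toEquiv, hk2]
    have h1 : Nat.card (Cfsg.Omega (ZMod 3) Q6) * 4 = 26127360 := by
      rw [← card_O6, ← hidx, Subgroup.card_mul_index]
    have h3 := (Subgroup.center ↥(Cfsg.Omega (ZMod 3) Q6)).card_mul_index
    have h4 : (Subgroup.center ↥(Cfsg.Omega (ZMod 3) Q6)).index = 3265920 := by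
      rw [Subgroup.index_eq_card, show Nat.card (_ ⧸ _) = Nat.card (Cfsg.PSU 4 K 3) from Nat.card_congr e.toEquiv,
        PSUFourSeven.card_PSU hK]
    rw [h4] at h3
    omega
  exact ⟨((MulEquiv.subgroupCongr hrange.symm).trans (QuotientGroup.quotientKerEquivRange χ).symm).trans
    ((QuotientGroup.quotientMulEquivOfEq (Subgroup.eq_of_le_of_card_ge hcen hcard)).trans e)⟩

end Space

end Cfsg.Lib.Fischer.Frame126
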