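import Cfsg.Agent.Lib.Fischer.Frame126.Basic

/-!
# Adjacency between points of two pairs of a frame
-/

set_option autoImplicit false

namespace Cfsg.Lib.Fischer.Frame126

universe u

theorem Four.ne {i j k l m n : Fin 6} (h : Four i j k l m n) :
    (i ≠ j ∧ i ≠ k ∧ i ≠ l ∧ i ≠ m ∧ i ≠ n) ∧ (j ≠ k ∧ j ≠ l ∧ j ≠ m ∧ j ≠ n) ∧ (k ≠ l ∧ k ≠ m ∧ k ≠ n) ∧
      (l ≠ m ∧ l ≠ n) ∧ m ≠ n := by
  simpa [Four, List.nodup_cons, List.mem_cons] using h

theorem exists_three (i j k : Fin 6) (h : i ≠ j) (h' : i ≠ k) (h'' : j ≠ k) :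
    ∃ l m n, Four i j k l m n := by
  revert i j k
  decide

namespace Space

variable {Ω : Type u} (S : Space Ω) {F : Fin 6 → Ω} (hF : S.IsFrame F)
include hF

variable {i j k l m n : Fin 6} {x y : Ω}

omit hF in
theorem adj_fixed {p : Ω} (hp : S.adj p x) : S.adj x (S.tw p y) ↔ S.adj x y := by
  conv_lhs => rw [← S.tw_fix hp]
  exact S.adj_tw_iff p

theorem adj_tw_left (hx : x ∈ S.P F i j) (h : k = i ∨ k = j) : S.adj x (S.tw (F k) y) ↔ S.adj x y :=
  S.adj_fixed (S.adj_symm ((hx k).2 h))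

theorem not_adj_line (hx : x ∈ S.P F i j) (hy : y ∈ S.P F l m) (hi : k ≠ i) (hj : k ≠ j) (hl : k ≠ l) (hm : k ≠ m)
    (h : S.adj x y) : ¬ S.adj x (S.tw (F k) y) := by
  intro h'
  rw [S.tw_swap (fun e => S.not_range hF hy ⟨k, e⟩) (S.not_adj hF hy hl hm)] at h'
  exact S.not_adj hF hx hi hj (S.adj_symm (S.adj_line h h'))

theorem pair_ne (hx : x ∈ S.P F i j) (hy : y ∈ S.P F k l) (hi : i ≠ k) (hj : i ≠ l) : x ≠ y := by
  rintro rfl
  rcases (hy i).1 (S.adj_left hF hx) with e | e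
  exacts [hi e, hj e]

/-- The frame through two members and a point of their pair. -/
theorem pair_frame (hx : x ∈ S.P F i j) (h : Four i j k l m n) :
    S.IsFrame ![F i, F j, x, S.tw (F k) (S.tw (F l) x), S.tw (F k) (S.tw (F m) x), S.tw (F k) (S.tw (F n) x)] := by
  obtain ⟨⟨hij, hik, hil, him, hin⟩, ⟨hjk, hjl, hjm, hjn⟩, ⟨hkl, hkm, hkn⟩, ⟨hlm, hln⟩, hmn⟩ := h.ne
  have z : ∀ {a}, a ≠ i → a ≠ j → k ≠ a → S.adj x (S.tw (F k) (S.tw (F a) x)) := fun h1 h2 h3 =>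
    S.adj_tw_two hF hx (Ne.symm hik) (Ne.symm hjk) h1 h2 h3
  have zz : ∀ {a b}, a ≠ i → a ≠ j → b ≠ i → b ≠ j → a ≠ b →
      S.adj (S.tw (F k) (S.tw (F a) x)) (S.tw (F k) (S.tw (F b) x)) := fun {a b} h1 h2 h3 h4 h5 => by
    rw [S.adj_tw_iff]
    have := S.adj_tw (F a) (S.adj_tw_two hF hx h1 h2 h3 h4 h5)
    rwa [S.tw_tw] at this
  have mz : ∀ a, S.tw (F k) (S.tw (F a) x) ∈ S.P F i j := fun a => S.mem_tw hF (S.mem_tw hF hx a) k
  have key : ∀ a b : Fin 6, a < b → S.adj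
      (![F i, F j, x, S.tw (F k) (S.tw (F l) x), S.tw (F k) (S.tw (F m) x), S.tw (F k) (S.tw (F n) x)] a)
      (![F i, F j, x, S.tw (F k) (S.tw (F l) x), S.tw (F k) (S.tw (F m) x), S.tw (F k) (S.tw (F n) x)] b) := by
    intro a b hab
    fin_cases a <;> fin_cases b <;> simp at hab <;> dsimp only [Matrix.cons_val]
    · exact hF i j hij
    · exact S.adj_symm (S.adj_left hF hx)
    iterate 3 exact S.adj_symm (S.adj_left hF (mz _))
    · exact S.adj_symm (S.adj_right hF hx)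
    iterate 3 exact S.adj_symm (S.adj_right hF (mz _))
    · exact z (Ne.symm hil) (Ne.symm hjl) hkl
    · exact z (Ne.symm him) (Ne.symm hjm) hkm
    · exact z (Ne.symm hin) (Ne.symm hjn) hkn
    · exact zz (Ne.symm hil) (Ne.symm hjl) (Ne.symm him) (Ne.symm hjm) hlm
    · exact zz (Ne.symm hil) (Ne.symm hjl) (Ne.symm hin) (Ne.symm hjn) hln
    · exact zz (Ne.symm him) (Ne.symm hjm) (Ne.symm hin) (Ne.symm hjn) hmn
  intro a b hab
  rcases lt_or_gt_of_ne hab with h | h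
  exacts [key a b h, S.adj_symm (key b a h)]

theorem exists_adj (hx : x ∈ S.P F i j) (h : Four i j k l m n) {a b : Fin 6} (hy : y ∈ S.P F a b) (hab : a ≠ b)
    (hne : y ∉ S.P F i j) : ∃ y' ∈ S.P F a b, S.adj x y' := by
  obtain ⟨G, hG⟩ : ∃ G : Fin 6 → Ω,
      G = ![F i, F j, x, S.tw (F k) (S.tw (F l) x), S.tw (F k) (S.tw (F m) x), S.tw (F k) (S.tw (F n) x)] := ⟨_, rfl⟩
  have mz : ∀ c, S.tw (F k) (S.tw (F c) x) ∈ S.P F i j := fun c => S.mem_tw hF (S.mem_tw hF hx c) k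
  have hyG : y ∉ Set.range G := by
    rintro ⟨t, rfl⟩
    fin_cases t
    iterate 2 exact S.not_range hF hy ⟨_, by rw [hG]; rfl⟩
    · exact hne (by rw [hG]; exact hx)
    iterate 3 exact hne (by rw [hG]; exact mz _)
  obtain ⟨c, e, hce, htwo⟩ := S.two G (hG ▸ S.pair_frame hF hx h) y hyG
  have hpick : ∃ t, S.adj y (G t) ∧ (t = 2 ∨ t = 3 ∨ t = 4 ∨ t = 5) := by
    by_contra hno
    simp only [not_exists, not_and] at hno
    have hc := hno c ((htwo c).2 (Or.inl rfl))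
    have he := hno e ((htwo e).2 (Or.inr rfl))
    have h1 := (htwo c).2 (Or.inl rfl)
    have h2 := (htwo e).2 (Or.inr rfl)
    have : (c = 0 ∧ e = 1) ∨ (c = 1 ∧ e = 0) := by omega
    rcases this with ⟨rfl, rfl⟩ | ⟨rfl, rfl⟩ <;> simp only [hG, Matrix.cons_val] at h1 h2
    · have e1 := (hy i).1 h1
      have e2 := (hy j).1 h2
      have hij := h.ne.1.1
      refine hne ?_
      rcases e1 with rfl | rfl <;> rcases e2 with rfl | rfl
      · exact absurd rfl hij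
      · exact hy
      · rwa [S.P_symm]
      · exact absurd rfl hij
    · have e1 := (hy j).1 h1
      have e2 := (hy i).1 h2
      have hij := h.ne.1.1
      refine hne ?_
      rcases e1 with rfl | rfl <;> rcases e2 with rfl | rfl
      · exact absurd rfl hij
      · rwa [S.P_symm]
      · exact hy
      · exact absurd rfl hij
  obtain ⟨t, ht, rfl | rfl | rfl | rfl⟩ := hpick <;> simp only [hG, Matrix.cons_val] at ht
  · exact ⟨y, hy, S.adj_symm ht⟩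
  all_goals
    have h1 := S.adj_tw (F k) ht
    rw [S.tw_tw] at h1
  · have h2 := S.adj_tw (F l) h1; rw [S.tw_tw] at h2
    exact ⟨_, S.mem_tw hF (S.mem_tw hF hy k) l, S.adj_symm h2⟩
  · have h2 := S.adj_tw (F m) h1; rw [S.tw_tw] at h2
    exact ⟨_, S.mem_tw hF (S.mem_tw hF hy k) m, S.adj_symm h2⟩
  · have h2 := S.adj_tw (F n) h1; rw [S.tw_tw] at h2
    exact ⟨_, S.mem_tw hF (S.mem_tw hF hy k) n, S.adj_symm h2⟩

theorem share_exists (hij : i ≠ j) (hik : i ≠ k) (hjk : j ≠ k) (hx : x ∈ S.P F i j) :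
    ∃ y ∈ S.P F i k, S.adj x y := by
  obtain ⟨l, m, n, h⟩ := exists_three i j k hij hik hjk
  obtain ⟨y, hy⟩ := S.exists_mem hF hik
  exact S.exists_adj hF hx h hy hik fun hy' =>
    (hy' k).1 (S.adj_right hF hy) |>.elim (Ne.symm hik) (Ne.symm hjk)

theorem disjoint_exists (h : Four i j k l m n) (hx : x ∈ S.P F i j) : ∃ y ∈ S.P F k l, S.adj x y := by
  obtain ⟨⟨hij, hik, hil, him, hin⟩, ⟨hjk, hjl, hjm, hjn⟩, ⟨hkl, hkm, hkn⟩, -⟩ := h.ne
  obtain ⟨y, hy⟩ := S.exists_mem hF hkl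
  exact S.exists_adj hF hx h hy hkl fun hy' =>
    (hy' k).1 (S.adj_left hF hy) |>.elim (Ne.symm hik) (Ne.symm hjk)

/-- The neighbours in a pair sharing one member. -/
theorem share_iff (h : Four i j k l m n) (hx : x ∈ S.P F i j) (hy : y ∈ S.P F i k) (hxy : S.adj x y) {y' : Ω}
    (hy' : y' ∈ S.P F i k) : S.adj x y' ↔ y' = y ∨ y' = S.tw (F j) y := by
  obtain ⟨⟨hij, hik, hil, him, hin⟩, ⟨hjk, hjl, hjm, hjn⟩, ⟨hkl, hkm, hkn⟩, ⟨hlm, hln⟩, hmn⟩ := h.ne
  have h' : Four i k j l m n := by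
    simp only [Four, List.nodup_cons, List.mem_cons, List.not_mem_nil, or_false, not_or, List.nodup_nil, and_true,
      not_false_eq_true]
    exact ⟨⟨hik, hij, hil, him, hin⟩, ⟨Ne.symm hjk, hkl, hkm, hkn⟩, ⟨hjl, hjm, hjn⟩, ⟨hlm, hln⟩, hmn⟩
  have no : ∀ {a}, a ≠ i → a ≠ j → a ≠ k → ¬ S.adj x (S.tw (F a) y) := fun h1 h2 h3 =>
    S.not_adj_line hF hx hy h1 h2 h1 h3 hxy
  have no2 : ∀ {a}, a ≠ i → a ≠ j → a ≠ k → ¬ S.adj x (S.tw (F j) (S.tw (F a) y)) := fun h1 h2 h3 e =>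
    no h1 h2 h3 ((S.adj_tw_left hF hx (Or.inr rfl)).1 e)
  refine ⟨fun ha => ?_, ?_⟩
  · rcases S.cases_P hF hy h' hy' with e | e | e | e | e | e | e | e
    · exact Or.inl e
    · exact Or.inr e
    all_goals subst e
    · exact absurd ha (no (Ne.symm hil) (Ne.symm hjl) (Ne.symm hkl))
    · exact absurd ha (no (Ne.symm him) (Ne.symm hjm) (Ne.symm hkm))
    · exact absurd ha (no (Ne.symm hin) (Ne.symm hjn) (Ne.symm hkn))
    · exact absurd ha (no2 (Ne.symm hil) (Ne.symm hjl) (Ne.symm hkl))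
    · exact absurd ha (no2 (Ne.symm him) (Ne.symm hjm) (Ne.symm hkm))
    · exact absurd ha (no2 (Ne.symm hin) (Ne.symm hjn) (Ne.symm hkn))
  · rintro (rfl | rfl)
    exacts [hxy, (S.adj_tw_left hF hx (Or.inr rfl)).2 hxy]

/-- Exactly one of a point of a disjoint pair and its image is adjacent. -/
theorem disjoint_flip (h : Four i j k l m n) (hx : x ∈ S.P F i j) (hy : y ∈ S.P F k l) {t : Fin 6}
    (ht : t = m ∨ t = n) : S.adj x (S.tw (F t) y) ↔ ¬ S.adj x y := by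
  obtain ⟨⟨hij, hik, hil, him, hin⟩, ⟨hjk, hjl, hjm, hjn⟩, ⟨hkl, hkm, hkn⟩, ⟨hlm, hln⟩, hmn⟩ := h.ne
  obtain ⟨t1, t2, t3, t4⟩ : t ≠ i ∧ t ≠ j ∧ t ≠ k ∧ t ≠ l := by
    rcases ht with rfl | rfl <;> exact ⟨Ne.symm ‹_›, Ne.symm ‹_›, Ne.symm ‹_›, Ne.symm ‹_›⟩
  refine ⟨fun ha hxy => S.not_adj_line hF hx hy t1 t2 t3 t4 hxy ha, fun hno => ?_⟩
  obtain ⟨y₀, hy₀, h₀⟩ := S.disjoint_exists hF h hx
  have h' : Four k l i j m n := by
    simp only [Four, List.nodup_cons, List.mem_cons, List.not_mem_nil, or_false, not_or, List.nodup_nil, and_true,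
      not_false_eq_true]
    exact ⟨⟨hkl, Ne.symm hik, Ne.symm hjk, hkm, hkn⟩, ⟨Ne.symm hil, Ne.symm hjl, hlm, hln⟩, ⟨hij, him, hin⟩,
      ⟨hjm, hjn⟩, hmn⟩
  have fi : ∀ u, S.adj x (S.tw (F i) u) ↔ S.adj x u := fun u => S.adj_tw_left hF hx (Or.inl rfl)
  have fj : ∀ u, S.adj x (S.tw (F j) u) ↔ S.adj x u := fun u => S.adj_tw_left hF hx (Or.inr rfl)
  have eq2 : S.tw (F m) (S.tw (F n) y₀) = S.tw (F i) (S.tw (F j) y₀) := S.tw_two_eq hF hy₀ h'
  rcases S.cases_P hF hy₀ h' hy with e | e | e | e | e | e | e | e <;> subst e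
  · exact absurd h₀ hno
  · exact absurd ((fi _).2 h₀) hno
  · exact absurd ((fj _).2 h₀) hno
  · rcases ht with rfl | rfl
    · rwa [S.tw_tw]
    · rw [S.tw_frame_comm hF t m, eq2, fi, fj]; exact h₀
  · rcases ht with rfl | rfl
    · rw [eq2, fi, fj]; exact h₀
    · rwa [S.tw_tw]
  · exact absurd ((fi _).2 ((fj _).2 h₀)) hno
  · rcases ht with rfl | rfl
    · rw [S.tw_frame_comm hF t i, S.tw_tw, fi]; exact h₀
    · rw [S.tw_frame_comm hF t i, fi, S.tw_frame_comm hF t m, eq2, fi, fj]; exact h₀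
  · rcases ht with rfl | rfl
    · rw [S.tw_frame_comm hF t i, fi, eq2, fi, fj]; exact h₀
    · rw [S.tw_frame_comm hF t i, S.tw_tw, fi]; exact h₀

/-- The frame through a member and two adjacent points has one point for every other pair through the member. -/
theorem exists_star (h : Four i j k l m n) (hx : x ∈ S.P F i j) (hy : y ∈ S.P F i k) (hxy : S.adj x y) :
    ∃ G : Fin 6 → Ω, S.IsFrame G ∧ x ∈ Set.range G ∧ y ∈ Set.range G ∧ F i ∈ Set.range G ∧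
      ∀ t, t ≠ i → ∃ g ∈ Set.range G, g ∈ S.P F i t := by
  obtain ⟨⟨hij, hik, -⟩, ⟨hjk, -⟩, -⟩ := h.ne
  obtain ⟨G, hG, hsub⟩ := S.extend {F i, x, y} (by
    intro a ha b hb hab
    simp only [Set.mem_insert_iff, Set.mem_singleton_iff] at ha hb
    rcases ha with rfl | rfl | rfl <;> rcases hb with rfl | rfl | rfl
    · exact absurd rfl hab
    · exact S.adj_symm (S.adj_left hF hx)
    · exact S.adj_symm (S.adj_left hF hy)
    · exact S.adj_left hF hx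
    · exact absurd rfl hab
    · exact hxy
    · exact S.adj_left hF hy
    · exact S.adj_symm hxy
    · exact absurd rfl hab)
  refine ⟨G, hG, hsub (by simp), hsub (by simp), hsub (by simp), fun t ht => ?_⟩
  obtain ⟨a0, ha0⟩ := hsub (show F i ∈ ({F i, x, y} : Set Ω) by simp)
  have hnot : F t ∉ Set.range G := by
    intro htG
    obtain ⟨b, hb⟩ := htG
    obtain ⟨c, hc⟩ := hsub (show x ∈ ({F i, x, y} : Set Ω) by simp)
    obtain ⟨e, he⟩ := hsub (show y ∈ ({F i, x, y} : Set Ω) by simp)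
    have h1 : S.adj x (F t) := by
      rw [← hc, ← hb]; exact hG c b fun eq => S.not_range hF hx ⟨t, by rw [← hc, ← hb, eq]⟩
    have h2 : S.adj y (F t) := by
      rw [← he, ← hb]; exact hG e b fun eq => S.not_range hF hy ⟨t, by rw [← he, ← hb, eq]⟩
    rcases (hx t).1 h1 with e1 | e1
    · exact ht e1
    rcases (hy t).1 h2 with e2 | e2
    · exact ht e2
    · exact hjk (e1.symm.trans e2)
  obtain ⟨c, e, hce, htwo⟩ := S.two G hG (F t) hnot
  have hca : a0 = c ∨ a0 = e := (htwo a0).1 (ha0 ▸ hF t i ht)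
  obtain ⟨g, hg, hgne⟩ : ∃ g, S.adj (F t) (G g) ∧ g ≠ a0 := by
    rcases hca with rfl | rfl
    exacts [⟨e, (htwo e).2 (Or.inr rfl), hce.symm⟩, ⟨c, (htwo c).2 (Or.inl rfl), hce⟩]
  refine ⟨G g, ⟨g, rfl⟩, ?_⟩
  have hgi : S.adj (G g) (F i) := ha0 ▸ hG g a0 hgne
  have hgF : G g ∉ Set.range F := by
    rintro ⟨s, hs⟩
    obtain ⟨c', hc'⟩ := hsub (show x ∈ ({F i, x, y} : Set Ω) by simp)
    obtain ⟨e', he'⟩ := hsub (show y ∈ ({F i, x, y} : Set Ω) by simp)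
    have h1 : S.adj x (F s) := by
      rw [← hc', hs]; exact hG c' g fun eq => S.not_range hF hx ⟨s, by rw [hs, ← hc', eq]⟩
    have h2 : S.adj y (F s) := by
      rw [← he', hs]; exact hG e' g fun eq => S.not_range hF hy ⟨s, by rw [hs, ← he', eq]⟩
    rcases (hx s).1 h1 with e1 | e1
    · subst e1; exact hgne (S.frame_inj hG (hs.symm.trans ha0.symm))
    rcases (hy s).1 h2 with e2 | e2
    · subst e2; exact hgne (S.frame_inj hG (hs.symm.trans ha0.symm))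
    · exact hjk (e1.symm.trans e2)
  obtain ⟨p, q, hpq, h2'⟩ := S.two F hF (G g) hgF
  intro s
  rw [h2' s]
  have hi' := (h2' i).1 hgi
  have ht' := (h2' t).1 (S.adj_symm hg)
  omega

end Space

end Cfsg.Lib.Fischer.Frame126
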