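import Cfsg.Agent.Lib.Fischer.Frame126.Share

/-!
# Triangles of pairs

A common neighbour of adjacent points of two pairs sharing a member lies in the third pair of their triangle, or in a
pair disjoint from both.
-/

set_option autoImplicit false
set_option linter.unusedSectionVars false

namespace Cfsg.Lib.Fischer.Frame126

universe u

theorem Four.swap23 {i j k l m n : Fin 6} (h : Four i j k l m n) : Four i k j l m n :=
  ((List.Perm.swap k j [l, m, n]).cons i).nodup_iff.1 h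

namespace Space

variable {Ω : Type u} (S : Space Ω) {F : Fin 6 → Ω} (hF : S.IsFrame F)
include hF

variable {i j k l m n : Fin 6} {x y : Ω}

theorem pair_eq {p q a b : Fin 6} {w : Ω} (hw : w ∈ S.P F p q) (ha : S.adj w (F a)) (hb : S.adj w (F b))
    (hab : a ≠ b) : w ∈ S.P F a b := by
  intro s
  rw [hw s]
  have h1 := (hw a).1 ha
  have h2 := (hw b).1 hb
  omega

theorem exists_two_common {a b c : Fin 6} (h : Four i j k a b c) (hx : x ∈ S.P F i j) (hy : y ∈ S.P F i k) :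
    ∃ c₁ c₂, c₁ ≠ c₂ ∧ c₁ ∈ S.P F a b ∧ c₂ ∈ S.P F a b ∧ S.adj x c₁ ∧ S.adj y c₁ ∧ S.adj x c₂ ∧ S.adj y c₂ := by
  obtain ⟨⟨hij, hik, hia, hib, hic⟩, ⟨hjk, hja, hjb, hjc⟩, ⟨hka, hkb, hkc⟩, ⟨hab, hac⟩, hbc⟩ := h.ne
  have hxh : Four i j a b k c := by
    simp only [Four, List.nodup_cons, List.mem_cons, List.not_mem_nil, or_false, not_or, List.nodup_nil, and_true,
      not_false_eq_true]
    exact ⟨⟨hij, hia, hib, hik, hic⟩, ⟨hja, hjb, hjk, hjc⟩, ⟨hab, Ne.symm hka, hac⟩, ⟨Ne.symm hkb, hbc⟩, hkc⟩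
  have hyh : Four i k a b j c := by
    simp only [Four, List.nodup_cons, List.mem_cons, List.not_mem_nil, or_false, not_or, List.nodup_nil, and_true,
      not_false_eq_true]
    exact ⟨⟨hik, hia, hib, hij, hic⟩, ⟨hka, hkb, Ne.symm hjk, hkc⟩, ⟨hab, Ne.symm hja, hac⟩, ⟨Ne.symm hjb, hbc⟩, hjc⟩
  obtain ⟨w, hw, hxw⟩ := S.disjoint_exists hF hxh hx
  obtain ⟨u, hu, hxu, hyu⟩ : ∃ u ∈ S.P F a b, S.adj x u ∧ S.adj y u := by
    by_cases hyw : S.adj y w
    · exact ⟨w, hw, hxw, hyw⟩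
    · exact ⟨_, S.mem_tw hF hw j, (S.adj_tw_left hF hx (Or.inr rfl)).2 hxw,
        (S.disjoint_flip hF hyh hy hw (Or.inl rfl)).2 hyw⟩
  exact ⟨u, _, (S.tw_ne hF hu hia hib).symm, hu, S.mem_tw hF hu i, hxu, hyu,
    (S.adj_tw_left hF hx (Or.inl rfl)).2 hxu, (S.adj_tw_left hF hy (Or.inl rfl)).2 hyu⟩

/-- The points of the new pair of an edge. -/
theorem exists_edge (h : Four i j k l m n) (hx : x ∈ S.P F i j) (hy : y ∈ S.P F i k) (hxy : S.adj x y) :
    ∃ W : Set Ω, W.ncard = 8 ∧ (∀ w ∈ W, S.adj x w ∧ S.adj y w ∧ ¬ S.adj w (F i) ∧ w ∉ Set.range F) ∧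
      (∀ u, u ∉ Set.range F → S.adj x u → S.adj y u → ¬ S.adj u (F i) → u ∈ W) ∧
      (∀ w ∈ W, ∃ c ∈ W, ∃ d ∈ W, S.adj c (F j) ∧ S.adj d (F k) ∧
        ∃ H : Fin 6 → Ω, S.IsFrame H ∧ x ∈ Set.range H ∧ y ∈ Set.range H ∧ w ∈ Set.range H ∧ c ∈ Set.range H ∧
          d ∈ Set.range H) := by
  obtain ⟨⟨hij, hik, -⟩, ⟨hjk, -⟩, -⟩ := h.ne
  obtain ⟨G, hG, hxG, hyG, hiG, hstar⟩ := S.exists_star hF h hx hy hxy
  obtain ⟨a, ha⟩ := hxG
  obtain ⟨b, hb⟩ := hyG
  obtain ⟨e₀, he₀⟩ := hiG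
  have hxyne : x ≠ y := S.ne_of_adj hxy
  have hab : a ≠ b := fun e => hxyne (by rw [← ha, ← hb, e])
  have hea : e₀ ≠ a := fun e => S.not_range hF hx ⟨i, by rw [← he₀, ← ha, e]⟩
  have heb : e₀ ≠ b := fun e => S.not_range hF hy ⟨i, by rw [← he₀, ← hb, e]⟩
  have hjG : ∀ t, t ≠ i → F t ∉ Set.range G := by
    rintro t ht ⟨c, hc⟩
    have h1 : S.adj x (F t) := by
      rw [← ha, ← hc]; exact hG a c fun eq => S.not_range hF hx ⟨t, by rw [← ha, ← hc, eq]⟩
    have h2 : S.adj y (F t) := by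
      rw [← hb, ← hc]; exact hG b c fun eq => S.not_range hF hy ⟨t, by rw [← hb, ← hc, eq]⟩
    have e1 := (hx t).1 h1
    have e2 := (hy t).1 h2
    omega
  have hWmem : ∀ w ∈ S.P G a b, S.adj x w ∧ S.adj y w ∧ ¬ S.adj w (F i) ∧ w ∉ Set.range F := by
    intro w hw
    refine ⟨ha ▸ S.adj_symm (S.adj_left hG hw), hb ▸ S.adj_symm (S.adj_right hG hw),
      he₀ ▸ fun h' => S.not_adj hG hw hea heb (S.adj_symm h'), ?_⟩
    rintro ⟨t, rfl⟩
    have e1 := (hx t).1 (ha ▸ S.adj_symm (S.adj_left hG hw))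
    have e2 := (hy t).1 (hb ▸ S.adj_symm (S.adj_right hG hw))
    have : t = i := by omega
    subst this
    exact S.not_range hG hw ⟨e₀, he₀⟩
  refine ⟨S.P G a b, S.eight G hG a b hab, hWmem, fun u huF hxu hyu hui => ?_, fun w hw => ?_⟩
  · have huG : u ∉ Set.range G := by
      rintro ⟨c, rfl⟩
      by_cases hc : c = e₀
      · exact huF ⟨i, by rw [hc, he₀]⟩
      · exact hui (he₀ ▸ hG c e₀ hc)
    obtain ⟨p, q, hpq, h2⟩ := S.two G hG u huG
    exact S.pair_eq hG (p := p) (q := q) h2 (ha.symm ▸ S.adj_symm hxu) (hb.symm ▸ S.adj_symm hyu) hab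
  · obtain ⟨hxw, hyw, -, -⟩ := hWmem w hw
    obtain ⟨H, hH, hsub⟩ := S.extend {x, y, w} (by
      intro p hp q hq hpq
      simp only [Set.mem_insert_iff, Set.mem_singleton_iff] at hp hq
      rcases hp with rfl | rfl | rfl <;> rcases hq with rfl | rfl | rfl
      · exact absurd rfl hpq
      · exact hxy
      · exact hxw
      · exact S.adj_symm hxy
      · exact absurd rfl hpq
      · exact hyw
      · exact S.adj_symm hxw
      · exact S.adj_symm hyw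
      · exact absurd rfl hpq)
    obtain ⟨a', ha'⟩ := hsub (show x ∈ ({x, y, w} : Set Ω) by simp)
    obtain ⟨b', hb'⟩ := hsub (show y ∈ ({x, y, w} : Set Ω) by simp)
    obtain ⟨w', hw'⟩ := hsub (show w ∈ ({x, y, w} : Set Ω) by simp)
    have hab' : a' ≠ b' := fun e => hxyne (by rw [← ha', ← hb', e])
    have hmemW : ∀ c, c ≠ a' → c ≠ b' → H c ∈ S.P G a b := by
      intro c hca hcb
      have hnG : H c ∉ Set.range G := by
        intro hcG
        exact S.not_range hG hw ((S.eq_of_frames hG hH hab' hca.symm hcb.symm ⟨a, ha.trans ha'.symm⟩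
          ⟨b, hb.trans hb'.symm⟩ hcG).subset ⟨w', hw'⟩)
      obtain ⟨p, q, hpq, h2⟩ := S.two G hG (H c) hnG
      exact S.pair_eq hG (p := p) (q := q) h2 (ha.trans ha'.symm ▸ hH c a' hca) (hb.trans hb'.symm ▸ hH c b' hcb) hab
    have hout : ∀ {t}, t ≠ i → (S.adj x (F t) ↔ ¬ S.adj y (F t)) → ∃ c, c ≠ a' ∧ c ≠ b' ∧ S.adj (H c) (F t) := by
      intro t hti hone
      have htH : F t ∉ Set.range H := by
        rintro ⟨c, hc⟩
        have h1 : S.adj x (F t) := by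
          rw [← ha', ← hc]; exact hH a' c fun eq => S.not_range hF hx ⟨t, by rw [← ha', ← hc, eq]⟩
        have h2 : S.adj y (F t) := by
          rw [← hb', ← hc]; exact hH b' c fun eq => S.not_range hF hy ⟨t, by rw [← hb', ← hc, eq]⟩
        exact hone.1 h1 h2
      obtain ⟨p, q, hpq, h2⟩ := S.two H hH (F t) htH
      by_contra hno
      simp only [not_exists, not_and] at hno
      have hp : p = a' ∨ p = b' := by
        by_contra hp
        simp only [not_or] at hp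
        exact hno p hp.1 hp.2 (S.adj_symm ((h2 p).2 (Or.inl rfl)))
      have hq : q = a' ∨ q = b' := by
        by_contra hq
        simp only [not_or] at hq
        exact hno q hq.1 hq.2 (S.adj_symm ((h2 q).2 (Or.inr rfl)))
      have hboth : S.adj (F t) (H a') ∧ S.adj (F t) (H b') := ⟨(h2 a').2 (by omega), (h2 b').2 (by omega)⟩
      rw [ha', hb'] at hboth
      exact hone.1 (S.adj_symm hboth.1) (S.adj_symm hboth.2)
    obtain ⟨c, hc1, hc2, hc3⟩ := hout (Ne.symm hij) (iff_of_true (S.adj_right hF hx)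
      fun h' => ((hy j).1 h').elim (Ne.symm hij) hjk)
    obtain ⟨e, he1, he2, he3⟩ := hout (Ne.symm hik) (iff_of_false
      (fun h' => ((hx k).1 h').elim (Ne.symm hik) (Ne.symm hjk)) (not_not.2 (S.adj_right hF hy)))
    exact ⟨_, hmemW c hc1 hc2, _, hmemW e he1 he2, hc3, he3, H, hH, ⟨a', ha'⟩, ⟨b', hb'⟩, ⟨w', hw'⟩, ⟨c, rfl⟩,
      ⟨e, rfl⟩⟩

/-- A common neighbour in a pair through `j` lies in the pair `jk`, and there it is adjacent to both. -/
theorem triangle (h : Four i j k l m n) (hx : x ∈ S.P F i j) (hy : y ∈ S.P F i k) (hxy : S.adj x y) :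
    (∀ w, S.adj x w → S.adj y w → ¬ S.adj w (F i) → w ∉ Set.range F → S.adj w (F j) → S.adj w (F k)) ∧
      (∀ w, S.adj x w → S.adj y w → ¬ S.adj w (F i) → w ∉ Set.range F → S.adj w (F k) → S.adj w (F j)) ∧
        ∀ w ∈ S.P F j k, S.adj x w ↔ S.adj y w := by
  classical
  haveI := S.finite
  obtain ⟨⟨hij, hik, hil, him, hin⟩, ⟨hjk, hjl, hjm, hjn⟩, ⟨hkl, hkm, hkn⟩, ⟨hlm, hln⟩, hmn⟩ := h.ne
  obtain ⟨W, hW8, hW, hWin, hWH⟩ := S.exists_edge hF h hx hy hxy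
  have p1 : Four i j k l m n := h
  have p2 : Four i j k l n m := (((List.Perm.swap n m []).cons l).cons k |>.cons j |>.cons i).nodup_iff.1 h
  have p3 : Four i j k m n l :=
    ((((List.perm_append_comm (l₁ := [l]) (l₂ := [m, n]))).cons k).cons j |>.cons i).nodup_iff.1 h
  obtain ⟨u1, u2, nu, pu1, pu2, au⟩ := S.exists_two_common hF p1 hx hy
  obtain ⟨v1, v2, nv, pv1, pv2, av⟩ := S.exists_two_common hF p2 hx hy
  obtain ⟨w1, w2, nw, pw1, pw2, aw⟩ := S.exists_two_common hF p3 hx hy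
  obtain ⟨A, hA⟩ : ∃ A : Set Ω, A = {u1, u2, v1, v2, w1, w2} := ⟨_, rfl⟩
  have hAmem : ∀ u ∈ A, ∃ a b, (a = l ∨ a = m) ∧ (b = m ∨ b = n) ∧ u ∈ S.P F a b := by
    intro u hu
    simp only [hA, Set.mem_insert_iff, Set.mem_singleton_iff] at hu
    rcases hu with rfl | rfl | rfl | rfl | rfl | rfl
    exacts [⟨l, m, by simp, by simp, pu1⟩, ⟨l, m, by simp, by simp, pu2⟩, ⟨l, n, by simp, by simp, pv1⟩,
      ⟨l, n, by simp, by simp, pv2⟩, ⟨m, n, by simp, by simp, pw1⟩, ⟨m, n, by simp, by simp, pw2⟩]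
  have hAjk : ∀ u ∈ A, ¬ S.adj u (F j) ∧ ¬ S.adj u (F k) ∧ ¬ S.adj u (F i) := by
    intro u hu
    obtain ⟨a, b, ha, hb, hu⟩ := hAmem u hu
    refine ⟨fun e => ?_, fun e => ?_, fun e => ?_⟩ <;> have e' := (hu _).1 e <;> omega
  have hA6 : A.ncard = 6 := by
    have q1 : u1 ≠ v1 := S.pair_ne hF (i := m) (j := l) (by rwa [S.P_symm]) pv1 (Ne.symm hlm) hmn
    have q2 : u1 ≠ v2 := S.pair_ne hF (i := m) (j := l) (by rwa [S.P_symm]) pv2 (Ne.symm hlm) hmn
    have q3 : u2 ≠ v1 := S.pair_ne hF (i := m) (j := l) (by rwa [S.P_symm]) pv1 (Ne.symm hlm) hmn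
    have q4 : u2 ≠ v2 := S.pair_ne hF (i := m) (j := l) (by rwa [S.P_symm]) pv2 (Ne.symm hlm) hmn
    have q5 : u1 ≠ w1 := S.pair_ne hF pu1 pw1 hlm hln
    have q6 : u1 ≠ w2 := S.pair_ne hF pu1 pw2 hlm hln
    have q7 : u2 ≠ w1 := S.pair_ne hF pu2 pw1 hlm hln
    have q8 : u2 ≠ w2 := S.pair_ne hF pu2 pw2 hlm hln
    have q9 : v1 ≠ w1 := S.pair_ne hF pv1 pw1 hlm hln
    have q10 : v1 ≠ w2 := S.pair_ne hF pv1 pw2 hlm hln
    have q11 : v2 ≠ w1 := S.pair_ne hF pv2 pw1 hlm hln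
    have q12 : v2 ≠ w2 := S.pair_ne hF pv2 pw2 hlm hln
    have : A = ↑[u1, u2, v1, v2, w1, w2].toFinset := by
      rw [hA, List.coe_toFinset]
      ext u
      simp
    rw [this, Set.ncard_coe_finset, List.toFinset_card_of_nodup (by simp [*])]
    rfl
  have hAW : A ⊆ W := by
    intro u hu
    obtain ⟨a, b, -, -, hu'⟩ := hAmem u hu
    simp only [hA, Set.mem_insert_iff, Set.mem_singleton_iff] at hu
    refine hWin u (S.not_range hF hu') ?_ ?_ (hAjk u (by simp only [hA, Set.mem_insert_iff, Set.mem_singleton_iff]; exact hu)).2.2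
    · rcases hu with rfl | rfl | rfl | rfl | rfl | rfl
      exacts [au.1, au.2.2.1, av.1, av.2.2.1, aw.1, aw.2.2.1]
    · rcases hu with rfl | rfl | rfl | rfl | rfl | rfl
      exacts [au.2.1, au.2.2.2, av.2.1, av.2.2.2, aw.2.1, aw.2.2.2]
  obtain ⟨w0, hw0⟩ : W.Nonempty := Set.nonempty_of_ncard_ne_zero (by omega)
  obtain ⟨c, hc, d, hd, hcj, hdk, H, hH, hxH, hyH, -, hcH, hdH⟩ := hWH w0 hw0
  obtain ⟨w', hw', hw'H⟩ : ∃ w' ∈ W, w' ∉ Set.range H := by
    by_contra hno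
    simp only [not_exists, not_and, not_not] at hno
    have := Set.ncard_le_ncard hno
    rw [Set.ncard_range_of_injective (S.frame_inj hH), hW8] at this
    simp at this
  obtain ⟨c', hc', d', hd', hcj', hdk', H', hH', hxH', hyH', hwH', hcH', hdH'⟩ := hWH w' hw'
  have hsep : ∀ {u}, u ∈ W → u ∈ Set.range H → u ∉ Set.range H' := by
    rintro u hu hu1 ⟨t, rfl⟩
    obtain ⟨p, rfl⟩ := hxH'
    obtain ⟨q, rfl⟩ := hyH'
    obtain ⟨hxu, hyu, -, -⟩ := hW _ hu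
    exact hw'H ((S.eq_of_frames hH hH' (a := p) (b := q) (c := t) (fun e => S.ne_of_adj hxy (congrArg H' e))
      (fun e => S.ne_of_adj hxu (congrArg H' e)) (fun e => S.ne_of_adj hyu (congrArg H' e))
      hxH hyH hu1).subset hwH')
  have hrest : (W \ A).ncard = 2 := by rw [Set.ncard_sdiff hAW, hW8, hA6]
  have hcA : ∀ {u}, S.adj u (F j) → u ∉ A := fun h1 h2 => (hAjk _ h2).1 h1
  have hdA : ∀ {u}, S.adj u (F k) → u ∉ A := fun h1 h2 => (hAjk _ h2).2.1 h1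
  have hcc : c ≠ c' := fun e => hsep hc hcH (e ▸ hcH')
  have hdd : d ≠ d' := fun e => hsep hd hdH (e ▸ hdH')
  have eC : ({c, c'} : Set Ω) = W \ A := Set.eq_of_subset_of_ncard_le
    (by rintro u (rfl | rfl); exacts [⟨hc, hcA hcj⟩, ⟨hc', hcA hcj'⟩]) (by rw [hrest, Set.ncard_pair hcc])
  have eD : ({d, d'} : Set Ω) = W \ A := Set.eq_of_subset_of_ncard_le
    (by rintro u (rfl | rfl); exacts [⟨hd, hdA hdk⟩, ⟨hd', hdA hdk'⟩]) (by rw [hrest, Set.ncard_pair hdd])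
  have both : ∀ u ∈ W \ A, S.adj u (F j) ∧ S.adj u (F k) := fun u hu => by
    constructor
    · rcases eC.symm.subset hu with rfl | rfl <;> assumption
    · rcases eD.symm.subset hu with rfl | rfl <;> assumption
  refine ⟨fun w hxw hyw hwi hwF hwj => (both w ⟨hWin w hwF hxw hyw hwi, hcA hwj⟩).2,
    fun w hxw hyw hwi hwF hwk => (both w ⟨hWin w hwF hxw hyw hwi, hdA hwk⟩).1, fun w hw => ?_⟩
  have hin : ∀ u ∈ W \ A, u ∈ S.P F j k := fun u hu => by
    obtain ⟨p, q, hpq, h2⟩ := S.two F hF u (hW u hu.1).2.2.2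
    exact S.pair_eq hF (p := p) (q := q) h2 (both u hu).1 (both u hu).2 hjk
  have key : ∀ {p q : Ω} {t : Fin 6}, Four j t k l m n → p ∈ S.P F t j → (∀ u ∈ W, S.adj p u) →
      S.adj p w → w ∈ W := by
    intro p q t ht hp hpW hpw
    have hp' : p ∈ S.P F j t := by rwa [S.P_symm]
    have hiff := fun {u} (hu : u ∈ S.P F j k) => S.share_iff hF ht hp' hw hpw hu
    obtain ⟨h1, h2⟩ := (⟨eC.subset (Or.inl rfl), eC.subset (Or.inr rfl)⟩ : c ∈ W \ A ∧ c' ∈ W \ A)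
    rcases (hiff (hin c h1)).1 (hpW c hc) with e | e
    · exact e ▸ hc
    rcases (hiff (hin c' h2)).1 (hpW c' hc') with e' | e'
    · exact e' ▸ hc'
    · exact absurd (e.trans e'.symm) hcc
  have hk : ∀ {p q : Ω} {t : Fin 6}, Four k t j l m n → p ∈ S.P F t k → (∀ u ∈ W, S.adj p u) →
      S.adj p w → w ∈ W := by
    intro p q t ht hp hpW hpw
    have hp' : p ∈ S.P F k t := by rwa [S.P_symm]
    have hw2 : w ∈ S.P F k j := by rwa [S.P_symm]
    have hiff := fun {u} (hu : u ∈ S.P F j k) => S.share_iff hF ht hp' hw2 hpw (y' := u) (by rwa [S.P_symm])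
    obtain ⟨h1, h2⟩ := (⟨eC.subset (Or.inl rfl), eC.subset (Or.inr rfl)⟩ : c ∈ W \ A ∧ c' ∈ W \ A)
    rcases (hiff (hin c h1)).1 (hpW c hc) with e | e
    · exact e ▸ hc
    rcases (hiff (hin c' h2)).1 (hpW c' hc') with e' | e'
    · exact e' ▸ hc'
    · exact absurd (e.trans e'.symm) hcc
  constructor
  · intro h'
    have hj : Four j i k l m n := (List.Perm.swap j i [k, l, m, n]).nodup_iff.1 h
    exact (hW w (key (q := y) hj hx (fun u hu => (hW u hu).1) h')).2.1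
  · intro h'
    have hk' : Four k i j l m n :=
      ((List.Perm.swap i k [j, l, m, n]).trans ((List.Perm.swap j k [l, m, n]).cons i)).nodup_iff.2 h
    exact (hW w (hk (q := x) hk' hy (fun u hu => (hW u hu).2.1) h')).1

end Space

end Cfsg.Lib.Fischer.Frame126
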